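import Mathlib
import Cfsg.Agent.Lib.Lead.Char17
import Cfsg.Agent.Lib.Helper7.ClassProd
import Cfsg.Agent.Lib.Helper7.DefectZero

/-!
Twisting an irreducible character by a linear character gives an irreducible character.
-/

namespace Cfsg.Agent.Lib.Helper7.LT

open Cfsg.Agent.Lib.Lead

/-- a linear character has absolute value one -/
theorem linear_mul_conj {G : Type*} [Group G] [Finite G] (μ : Cfsg.IrrCharacter G)
    (h1 : μ.1 1 = 1) (g : G) : μ.1 g * (starRingEnd ℂ) (μ.1 g) = 1 := by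
  have hmul := Cfsg.Agent.Lib.Helper7.irr_linear_mul μ h1 g g⁻¹
  rw [mul_inv_cancel, h1] at hmul
  obtain ⟨n, ρ, hρ, hρχ⟩ := μ.2
  have hinv : μ.1 g⁻¹ = (starRingEnd ℂ) (μ.1 g) := by
    rw [← hρχ]; exact char_inv ρ g
  rw [← hinv, ← hmul]

/-- the product of a linear character and an irreducible character is irreducible -/
theorem irr_linear_twist {G : Type*} [Group G] [Finite G] (μ χ : Cfsg.IrrCharacter G)
    (h1 : μ.1 1 = 1) : Cfsg.IsIrrCharacter G (μ.1 * χ.1) := by
  classical
  haveI : Fintype G := Fintype.ofFinite G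
  apply isIrrCharacter_of_norm_one (isCharacter_mul (isCharacter_of_irr μ.2) (isCharacter_of_irr χ.2))
  have hself := irr_inner_self χ
  unfold Cfsg.classInner at hself ⊢
  rw [← hself]
  congr 1
  apply Finset.sum_congr rfl
  intro g _
  simp only [Pi.mul_apply, map_mul]
  have := linear_mul_conj μ h1 g
  calc μ.1 g * χ.1 g * ((starRingEnd ℂ) (μ.1 g) * (starRingEnd ℂ) (χ.1 g))
      = (μ.1 g * (starRingEnd ℂ) (μ.1 g)) * (χ.1 g * (starRingEnd ℂ) (χ.1 g)) := by ring
    _ = χ.1 g * (starRingEnd ℂ) (χ.1 g) := by rw [this, one_mul]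

/-- twisting by a linear character preserves the degree -/
theorem charDegree_twist {G : Type*} [Group G] (μ χ : Cfsg.IrrCharacter G)
    (h1 : μ.1 1 = 1) : Cfsg.charDegree (μ.1 * χ.1) = Cfsg.charDegree χ.1 := by
  unfold Cfsg.charDegree
  simp only [Pi.mul_apply, h1, one_mul]

end Cfsg.Agent.Lib.Helper7.LT
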