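import Mathlib

set_option autoImplicit false

namespace Cfsg.Agent.Lib.Helper7

/-- Schur: a central element acts as a scalar in an irreducible complex representation. -/
theorem central_scalar {G : Type*} [Group G] {V : Type*} [AddCommGroup V] [Module ℂ V]
    [FiniteDimensional ℂ V] (ρ : Representation ℂ G V) [hirr : ρ.IsIrreducible] (z : G)
    (hz : z ∈ Subgroup.center G) : ∃ c : ℂ, ρ z = c • (1 : Module.End ℂ V) := by
  have hz' : z ∈ Submonoid.center G := hz
  obtain ⟨c, hc⟩ :=
    (Representation.IsIrreducible.algebraMap_intertwiningMap_bijective_of_isAlgClosed (ρ := ρ)).2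
      (Representation.IntertwiningMap.centralMul ρ z hz')
  refine ⟨c, ?_⟩
  have := congrArg Representation.IntertwiningMap.toLinearMap hc
  rw [Representation.IntertwiningMap.algebraMap_apply] at this
  exact this.symm

/-- A character of the zero-dimensional coordinate space vanishes. -/
theorem character_fin_zero {G : Type*} [Group G] (ρ : Representation ℂ G (Fin 0 → ℂ)) (g : G) :
    ρ.character g = 0 := by
  have : ρ g = 0 := Subsingleton.elim _ _
  unfold Representation.character
  rw [this, map_zero]

/-- If an element acts as the scalar `c`, right translation by it multiplies the character by `c`. -/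
theorem character_mul_scalar {G : Type*} [Group G] {V : Type*} [AddCommGroup V] [Module ℂ V]
    [FiniteDimensional ℂ V] (ρ : Representation ℂ G V) (g z : G) (c : ℂ)
    (hc : ρ z = c • (1 : Module.End ℂ V)) : ρ.character (g * z) = c * ρ.character g := by
  unfold Representation.character
  rw [map_mul, hc, mul_smul_comm, mul_one, map_smul, smul_eq_mul]

end Cfsg.Agent.Lib.Helper7
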