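import Mathlib
import Cfsg.Agent.Lib.Lead.Char17
import Cfsg.Agent.Lib.Helper7.Schur
import Cfsg.Agent.Lib.Helper7.DefectZero

/-!
Values of irreducible characters on central elements, and the bound `|Z| χ(1)² ≤ |G|` for a
central subgroup `Z`.
-/

namespace Cfsg.Agent.Lib.Helper7.CC

open Cfsg.Agent.Lib.Lead

/-- an irreducible character has absolute value `χ(1)` on central elements -/
theorem central_normSq {G : Type*} [Group G] [Finite G] (χ : Cfsg.IrrCharacter G) (z : G)
    (hz : z ∈ Subgroup.center G) : Complex.normSq (χ.1 z) = Complex.normSq (χ.1 1) := by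
  obtain ⟨n, ρ, hρ, hρχ⟩ := χ.2
  haveI := hρ
  obtain ⟨c, hc⟩ := Cfsg.Agent.Lib.Helper7.central_scalar ρ z hz
  have h1 : χ.1 z = c * χ.1 1 := by
    rw [← hρχ]
    have h := Cfsg.Agent.Lib.Helper7.character_mul_scalar ρ 1 z c hc
    rwa [one_mul] at h
  have hn : χ.1 1 ≠ 0 := irr_deg_ne_zero χ
  have hfin : χ.1 1 = (Module.finrank ℂ (Fin n → ℂ) : ℂ) := by
    rw [← hρχ, Representation.char_one]
  have h2 : c ^ orderOf z = 1 := by
    have h3 : ρ (z ^ orderOf z) = 1 := by rw [pow_orderOf_eq_one, map_one]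
    rw [map_pow, hc, smul_pow, one_pow] at h3
    have h4 := congrArg (LinearMap.trace ℂ (Fin n → ℂ)) h3
    rw [map_smul, LinearMap.trace_one, smul_eq_mul, ← hfin] at h4
    exact mul_right_cancel₀ hn (by rw [h4, one_mul])
  have h5 : ‖c‖ = 1 := Complex.norm_eq_one_of_pow_eq_one h2 (orderOf_pos z).ne'
  rw [h1, Complex.normSq_mul, Complex.normSq_eq_norm_sq c, h5]
  simp

/-- `|Z| χ(1)² ≤ |G|` for a central subgroup `Z` -/
theorem card_mul_deg_sq_le {G : Type*} [Group G] [Finite G] (χ : Cfsg.IrrCharacter G)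
    (Z : Subgroup G) (hZ : Z ≤ Subgroup.center G) :
    Nat.card Z * (Cfsg.charDegree χ.1) ^ 2 ≤ Nat.card G := by
  classical
  haveI : Fintype G := Fintype.ofFinite G
  have hself := irr_inner_self χ
  unfold Cfsg.classInner at hself
  have hne : (Nat.card G : ℂ) ≠ 0 := by exact_mod_cast Nat.card_pos.ne'
  have h1 : ∑ g : G, ((Complex.normSq (χ.1 g) : ℝ) : ℂ) = (Nat.card G : ℂ) := by
    have h0 : ∑ g : G, χ.1 g * (starRingEnd ℂ) (χ.1 g) = (Nat.card G : ℂ) := by
      have h00 := congrArg (fun t => (Nat.card G : ℂ) * t) hself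
      simp only [mul_one] at h00
      rw [← h00, ← mul_assoc, mul_inv_cancel₀ hne, one_mul]
    rw [← h0]
    apply Finset.sum_congr rfl
    intro g _
    rw [Complex.mul_conj]
  have h2 : ∑ g : G, Complex.normSq (χ.1 g) = (Nat.card G : ℝ) := by exact_mod_cast h1
  have h3 : ∑ g : G, (if g ∈ Z then Complex.normSq (χ.1 1) else 0)
      ≤ ∑ g : G, Complex.normSq (χ.1 g) := by
    apply Finset.sum_le_sum
    intro g _
    split_ifs with hg
    · rw [central_normSq χ g (hZ hg)]
    · exact Complex.normSq_nonneg _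
  rw [Finset.sum_ite, Finset.sum_const_zero, add_zero, Finset.sum_const, nsmul_eq_mul, h2] at h3
  have h4 : (Finset.univ.filter (fun g : G => g ∈ Z)).card = Nat.card Z := by
    rw [Nat.card_eq_fintype_card, Fintype.card_subtype]
  rw [h4, (DZ.charDegree_spec χ).2.1, Complex.normSq_natCast] at h3
  have h5 : ((Nat.card Z * (Cfsg.charDegree χ.1) ^ 2 : ℕ) : ℝ) ≤ (Nat.card G : ℝ) := by
    push_cast
    rw [pow_two]
    exact h3
  exact_mod_cast h5

end Cfsg.Agent.Lib.Helper7.CC
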