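import Mathlib
import Cfsg.Agent.Lib.Helper7.Clifford
import Cfsg.Agent.Lib.Helper7.CharCenter
import Cfsg.Agent.Lib.Helper7.ClassProd

/-!
Irreducible characters of prime codegree: structure, quotient characters, linear characters
of prime codegree for non-perfect groups.
-/

namespace Cfsg.Agent.Lib.Helper7.Codeg

open scoped Pointwise
open scoped commutatorElement

open Cfsg.Agent.Lib.Lead Cfsg.Agent.Lib.Helper7 Cfsg.Agent.Lib.Helper7.Cliff

/-- if `|G| = p χ(1)` with `χ(1) ≠ 1` then the Sylow `p`-subgroup is normal of order `p` and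
self-centralizing -/
theorem prime_codeg_structure {G : Type*} [Group G] [Finite G] (χ : Cfsg.IrrCharacter G) (p : ℕ)
    (hp : p.Prime) (hcod : Nat.card G = p * Cfsg.charDegree (χ : G → ℂ))
    (hd1' : Cfsg.charDegree (χ : G → ℂ) ≠ 1) :
    ∃ P : Sylow p G, (P : Subgroup G).Normal ∧ Nat.card (P : Subgroup G) = p ∧
      Subgroup.centralizer ((P : Subgroup G) : Set G) = (P : Subgroup G) := by
  classical
  haveI : Fact p.Prime := ⟨hp⟩
  haveI : Fintype G := Fintype.ofFinite G
  haveI : Fintype (Cfsg.IrrCharacter G) := Fintype.ofFinite _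
  obtain ⟨hdpos, hd1, hddvd⟩ := DZ.charDegree_spec χ
  set d := Cfsg.charDegree χ.1 with hd
  have hd2 : 2 ≤ d := by omega
  -- the degree is less than `p`
  have hlt : d < p := by
    have hsum := sum_deg_sq (G := G)
    rw [finsum_eq_sum_of_fintype] at hsum
    have hsumN : ((∑ χ' : Cfsg.IrrCharacter G, (Cfsg.charDegree χ'.1) ^ 2 : ℕ) : ℂ)
        = (Nat.card G : ℂ) := by
      rw [← hsum]
      push_cast
      exact Finset.sum_congr rfl (fun χ' _ => by rw [(DZ.charDegree_spec χ').2.1])
    have hsumN' : ∑ χ' : Cfsg.IrrCharacter G, (Cfsg.charDegree χ'.1) ^ 2 = Nat.card G := by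
      exact_mod_cast hsumN
    have hone : Cfsg.charDegree (irrOne G).1 = 1 := by
      have h1 := (DZ.charDegree_spec (irrOne G)).2.1
      have h2 : (irrOne G).1 1 = 1 := rfl
      rw [h2] at h1
      exact_mod_cast h1.symm
    have hne : χ ≠ irrOne G := by
      intro h
      apply hd1'
      rw [hd, h, hone]
    have h2 : ∑ x ∈ ({χ, irrOne G} : Finset (Cfsg.IrrCharacter G)), (Cfsg.charDegree x.1) ^ 2
        ≤ ∑ χ' : Cfsg.IrrCharacter G, (Cfsg.charDegree χ'.1) ^ 2 :=
      Finset.sum_le_sum_of_subset (Finset.subset_univ _)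
    rw [Finset.sum_pair hne, hone, hsumN', hcod] at h2
    by_contra hge
    push Not at hge
    have h3 : p * d ≤ d * d := Nat.mul_le_mul_right d hge
    nlinarith
  have hpd : ¬ p ∣ d := fun h => by
    have := Nat.le_of_dvd hdpos h
    omega
  obtain ⟨P⟩ : Nonempty (Sylow p G) := inferInstance
  have hfac : (Nat.card G).factorization p = 1 := by
    rw [hcod, Nat.factorization_mul hp.ne_zero hdpos.ne', Finsupp.add_apply, hp.factorization_self,
      Nat.factorization_eq_zero_of_not_dvd hpd]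
  have hPcard : Nat.card (P : Subgroup G) = p := by
    rw [Sylow.card_eq_multiplicity P, hfac, pow_one]
  have hPidx : (P : Subgroup G).index = d := by
    have h1 := Subgroup.card_mul_index (P : Subgroup G)
    rw [hPcard, hcod] at h1
    exact Nat.eq_of_mul_eq_mul_left hp.pos h1
  have hPn : (P : Subgroup G).Normal := by
    have h1 := card_sylow_modEq_one p G
    have h2 := Sylow.card_dvd_index P
    rw [hPidx] at h2
    have h3 : Nat.card (Sylow p G) ≤ d := Nat.le_of_dvd hdpos h2
    have h4 : Nat.card (Sylow p G) = 1 := by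
      have h5 : Nat.card (Sylow p G) < p := by omega
      unfold Nat.ModEq at h1
      rw [Nat.mod_eq_of_lt h5, Nat.mod_eq_of_lt hp.one_lt] at h1
      exact h1
    haveI : Subsingleton (Sylow p G) := (Nat.card_eq_one_iff_unique.mp h4).1
    exact Sylow.normal_of_subsingleton P
  haveI := hPn
  set C := Subgroup.centralizer ((P : Subgroup G) : Set G) with hC
  haveI hCn : C.Normal := Subgroup.normal_centralizer
  haveI : IsCyclic (P : Subgroup G) := isCyclic_of_prime_card hPcard
  have hPC : (P : Subgroup G) ≤ C := by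
    intro x hx
    rw [hC, Subgroup.mem_centralizer_iff]
    intro y hy
    have h1 := (IsCyclic.isMulCommutative (α := (P : Subgroup G))).is_comm.comm ⟨y, hy⟩ ⟨x, hx⟩
    exact congrArg Subtype.val h1
  haveI : Fintype C := Fintype.ofFinite C
  have hres : (fun c : C => χ.1 c) ≠ 0 := by
    intro h
    exact irr_deg_ne_zero χ (congrFun h 1)
  obtain ⟨θ, hθ⟩ := exists_constituent _
    (isClassFunction_restrict C χ.1 (isClassFunction_of_irr χ)) hres
  obtain ⟨r, hr⟩ := deg_le_index_mul C χ θ hθ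
  have htpos : 0 < Cfsg.charDegree θ.1 := (DZ.charDegree_spec θ).1
  set t := Cfsg.charDegree θ.1 with ht
  have hr' : C.index * t = d + r := by
    rw [(DZ.charDegree_spec θ).2.1, hd1] at hr
    exact_mod_cast hr
  have hcent : (P : Subgroup G).subgroupOf C ≤ Subgroup.center C := by
    intro z hz
    rw [Subgroup.mem_center_iff]
    intro g
    apply Subtype.ext
    have h1 := Subgroup.mem_centralizer_iff.mp g.2 (z : G) hz
    exact h1.symm
  have hsq := CC.card_mul_deg_sq_le θ _ hcent
  rw [Nat.card_congr (Subgroup.subgroupOfEquivOfLe hPC).toEquiv, hPcard] at hsq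
  have hCG := Subgroup.card_mul_index C
  obtain ⟨k, hk⟩ : p ∣ Nat.card C := by
    rw [← hPcard]; exact Subgroup.card_dvd_of_le hPC
  have hk1 : k = 1 := by
    have hidx : 0 < C.index := Nat.pos_of_ne_zero Subgroup.index_ne_zero_of_finite
    have e1 : k * C.index = d := by
      rw [hk, hcod, mul_assoc] at hCG
      exact Nat.eq_of_mul_eq_mul_left hp.pos hCG
    have e2 : k ≤ t := by
      by_contra hlt'
      push Not at hlt'
      have h1 : C.index * t < C.index * k := Nat.mul_lt_mul_of_pos_left hlt' hidx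
      nlinarith
    have e3 : t ^ 2 ≤ k := by
      rw [hk] at hsq
      exact Nat.le_of_mul_le_mul_left hsq hp.pos
    have hkpos : 0 < k := by
      rcases Nat.eq_zero_or_pos k with h0 | h0
      · rw [h0, mul_zero] at hk
        exact absurd hk Nat.card_pos.ne'
      · exact h0
    nlinarith
  have hCcard : Nat.card C = p := by rw [hk, hk1, mul_one]
  have hCP : C = (P : Subgroup G) :=
    (Subgroup.eq_of_le_of_card_ge hPC (by rw [hCcard, hPcard])).symm
  exact ⟨P, hPn, hPcard, hCP⟩

/-- an irreducible character whose kernel contains the normal subgroup `N` factors through the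
quotient -/
theorem exists_irr_quot {G : Type*} [Group G] [Finite G] (χ : Cfsg.IrrCharacter G)
    (N : Subgroup G) [N.Normal] (hN : ∀ k ∈ N, χ.1 k = χ.1 1) :
    ∃ ψ : Cfsg.IrrCharacter (G ⧸ N), ∀ g : G, ψ.1 (g : G ⧸ N) = χ.1 g := by
  obtain ⟨n, ρ, hρ, hρχ⟩ := χ.2
  have hker : N ≤ MonoidHom.ker ρ := by
    intro k hk
    rw [MonoidHom.mem_ker]
    have h1 := hN k hk
    rw [← hρχ, Representation.char_one] at h1
    exact (char_eq_deg_iff ρ k).mp h1
  let σ : Representation ℂ (G ⧸ N) (Fin n → ℂ) := QuotientGroup.lift N ρ hker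
  have hσ : ∀ g : G, σ (g : G ⧸ N) = ρ g := fun g => QuotientGroup.lift_mk N hker g
  have hσirr : σ.IsIrreducible := by
    rw [irr_iff] at hρ ⊢
    refine ⟨hρ.1, ?_⟩
    intro U hU
    apply hρ.2 U
    intro g v hv
    rw [← hσ g]
    exact hU _ v hv
  refine ⟨⟨σ.character, n, σ, hσirr, rfl⟩, ?_⟩
  intro g
  show σ.character (g : G ⧸ N) = χ.1 g
  rw [← hρχ]
  unfold Representation.character
  rw [hσ g]

/-- the commutator subgroup centralizes a cyclic normal subgroup -/
theorem commutator_le_centralizer_of_cyclic {G : Type*} [Group G] (P : Subgroup G) [hP : P.Normal]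
    [IsCyclic P] : commutator G ≤ Subgroup.centralizer (P : Set G) := by
  rw [commutator_def, Subgroup.commutator_le]
  intro g _ h _
  rw [Subgroup.mem_centralizer_iff]
  intro y hy
  let e := IsCyclic.mulAutMulEquiv (G := P)
  let f : G →* MulAut P := MulAut.conjNormal
  have h1 : f g * f h = f h * f g := by
    apply e.injective
    rw [map_mul, map_mul, mul_comm]
  have h2 : f ⁅g, h⁆ = 1 := by
    rw [commutatorElement_def, map_mul, map_mul, map_mul, map_inv, map_inv, h1]
    group
  have h3 : ((f ⁅g, h⁆ ⟨y, hy⟩ : P) : G) = y := by rw [h2]; rfl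
  have h4 : ⁅g, h⁆ * y * ⁅g, h⁆⁻¹ = y := h3
  calc y * ⁅g, h⁆ = (⁅g, h⁆ * y * ⁅g, h⁆⁻¹) * ⁅g, h⁆ := by rw [h4]
    _ = ⁅g, h⁆ * y := by group

/-- a group that is not perfect has a normal subgroup of prime index -/
theorem exists_normal_prime_index {G : Type*} [Group G] [Finite G] (h : commutator G ≠ ⊤) :
    ∃ N : Subgroup G, N.Normal ∧ (N.index).Prime := by
  classical
  let S : Set (Subgroup G) := {N | commutator G ≤ N ∧ N ≠ ⊤}
  have hfin : S.Finite := Set.toFinite _
  have hne : S.Nonempty := ⟨commutator G, le_rfl, h⟩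
  obtain ⟨N, hN, hmax⟩ := Set.exists_max_image S (fun N => Nat.card N) hfin hne
  obtain ⟨hcN, hNtop⟩ := hN
  have hNn : N.Normal := by
    constructor
    intro n hn g
    have e : g * n * g⁻¹ = ⁅g, n⁆ * n := by rw [commutatorElement_def]; group
    rw [e]
    exact N.mul_mem (hcN (by
      rw [commutator_def]
      exact Subgroup.commutator_mem_commutator (Subgroup.mem_top _) (Subgroup.mem_top _))) hn
  haveI := hNn
  refine ⟨N, hNn, ?_⟩
  have hidx1 : N.index ≠ 1 := fun h1 => hNtop (Subgroup.index_eq_one.mp h1)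
  have hcard : Nat.card (G ⧸ N) = N.index := (Subgroup.index_eq_card N).symm
  obtain ⟨p, hp, hpd⟩ := Nat.exists_prime_and_dvd hidx1
  haveI : Fact p.Prime := ⟨hp⟩
  obtain ⟨x, hx⟩ := exists_prime_orderOf_dvd_card' (G := G ⧸ N) p (by rw [hcard]; exact hpd)
  set Z := Subgroup.zpowers x with hZ
  set N₁ := Z.comap (QuotientGroup.mk' N) with hN₁
  have hNN₁ : N ≤ N₁ := by
    intro n hn
    rw [hN₁, Subgroup.mem_comap]
    have h1 : (QuotientGroup.mk' N) n = 1 := (QuotientGroup.eq_one_iff n).mpr hn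
    rw [h1]; exact Subgroup.one_mem _
  have hN₁top : N₁ = ⊤ := by
    by_contra hne1
    have h1 : N₁ ∈ S := ⟨hcN.trans hNN₁, hne1⟩
    have h2 := hmax N₁ h1
    have h3 : N = N₁ := Subgroup.eq_of_le_of_card_ge hNN₁ h2
    obtain ⟨g, hg⟩ := QuotientGroup.mk_surjective x
    have hg' : g ∈ N₁ := by
      rw [hN₁, Subgroup.mem_comap]
      show (g : G ⧸ N) ∈ Z
      rw [hg]
      exact Subgroup.mem_zpowers _
    rw [← h3] at hg'
    have h4 : (g : G ⧸ N) = 1 := (QuotientGroup.eq_one_iff g).mpr hg'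
    rw [hg] at h4
    rw [h4, orderOf_one] at hx
    exact hp.one_lt.ne' hx.symm
  have hZtop : Z = ⊤ := by
    have h1 := Subgroup.map_comap_eq_self_of_surjective (QuotientGroup.mk'_surjective N) Z
    rw [← hN₁, hN₁top, Subgroup.map_top_of_surjective _ (QuotientGroup.mk'_surjective N)] at h1
    exact h1.symm
  have h5 : Nat.card (G ⧸ N) = p := by
    rw [← Subgroup.card_top (G := G ⧸ N), ← hZtop, hZ, Nat.card_zpowers, hx]
  rw [← hcard, h5]
  exact hp

/-- a group that is not perfect has a linear character whose kernel has prime index -/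
theorem exists_linear_prime_codeg {G : Type*} [Group G] [Finite G] (h : commutator G ≠ ⊤) :
    ∃ (χ : Cfsg.IrrCharacter G) (N : Subgroup G), (N.index).Prime ∧ χ.1 1 = 1 ∧
      ∀ g : G, χ.1 g = χ.1 1 ↔ g ∈ N := by
  classical
  obtain ⟨N, hNn, hNp⟩ := exists_normal_prime_index h
  haveI := hNn
  have hcard : Nat.card (G ⧸ N) = N.index := (Subgroup.index_eq_card N).symm
  haveI : Fact (N.index).Prime := ⟨hNp⟩
  haveI : IsCyclic (G ⧸ N) := isCyclic_of_prime_card hcard
  have hcomm : commutator (G ⧸ N) = ⊥ := by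
    rw [eq_bot_iff, commutator_def, Subgroup.commutator_le]
    intro a _ b _
    rw [Subgroup.mem_bot, commutatorElement_eq_one_iff_mul_comm]
    exact (IsCyclic.isMulCommutative (α := G ⧸ N)).is_comm.comm a b
  have hlin := card_linear_char (G := G ⧸ N)
  rw [hcomm, Subgroup.index_bot, hcard] at hlin
  have h2 : 1 < Nat.card {ψ : Cfsg.IrrCharacter (G ⧸ N) // (ψ : G ⧸ N → ℂ) 1 = 1} := by
    rw [hlin]; exact hNp.one_lt
  haveI : Finite {ψ : Cfsg.IrrCharacter (G ⧸ N) // (ψ : G ⧸ N → ℂ) 1 = 1} :=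
    Nat.finite_of_card_ne_zero (by omega)
  obtain ⟨a, b, hab⟩ := (Finite.one_lt_card_iff_nontrivial.mp h2).exists_pair_ne
  -- a linear character different from the principal one
  obtain ⟨ψ, hψ1, hψne⟩ : ∃ ψ : Cfsg.IrrCharacter (G ⧸ N), ψ.1 1 = 1 ∧ ψ ≠ irrOne (G ⧸ N) := by
    by_cases ha : a.1 = irrOne (G ⧸ N)
    · refine ⟨b.1, b.2, ?_⟩
      intro hb
      exact hab (Subtype.ext (ha.trans hb.symm))
    · exact ⟨a.1, a.2, ha⟩
  obtain ⟨q₀, hq₀⟩ : ∃ q₀ : G ⧸ N, ψ.1 q₀ ≠ 1 := by
    by_contra hcon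
    push Not at hcon
    apply hψne
    apply Subtype.ext
    funext q
    exact hcon q
  let φ : (G ⧸ N) →* ℂ :=
    { toFun := ψ.1, map_one' := hψ1, map_mul' := irr_linear_mul ψ hψ1 }
  refine ⟨⟨fun g => ψ.1 ((QuotientGroup.mk' N) g),
    isIrrCharacter_comp_surj (QuotientGroup.mk' N) (QuotientGroup.mk'_surjective N) ψ.2⟩, N, hNp,
    ?_, ?_⟩
  · show ψ.1 ((QuotientGroup.mk' N) 1) = 1
    rw [map_one]; exact hψ1
  · intro g
    show ψ.1 ((QuotientGroup.mk' N) g) = ψ.1 ((QuotientGroup.mk' N) 1) ↔ g ∈ N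
    rw [map_one, hψ1]
    constructor
    · intro hg
      by_contra hgN
      have hne : (QuotientGroup.mk' N) g ≠ 1 := fun h1 => hgN ((QuotientGroup.eq_one_iff g).mp h1)
      have htop := zpowers_eq_top_of_prime_card (G := G ⧸ N) hcard hne
      have hmem : q₀ ∈ Subgroup.zpowers ((QuotientGroup.mk' N) g) := by
        rw [htop]; exact Subgroup.mem_top _
      obtain ⟨j, hj⟩ := Subgroup.mem_zpowers_iff.mp hmem
      apply hq₀
      have h3 : φ.toHomUnits ((QuotientGroup.mk' N) g) = 1 := by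
        apply Units.ext
        exact hg
      have h4 : φ.toHomUnits q₀ = 1 := by
        rw [← hj, map_zpow, h3, one_zpow]
      exact congrArg Units.val h4
    · intro hg
      have h1 : (QuotientGroup.mk' N) g = 1 := (QuotientGroup.eq_one_iff g).mpr hg
      rw [h1]; exact hψ1

end Cfsg.Agent.Lib.Helper7.Codeg
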