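import Mathlib
import Cfsg.Agent.Lib.Helper7.SylowCount
import Cfsg.Agent.Lib.Lead.CoprimeSylow

set_option autoImplicit false

namespace Cfsg.Agent.Lib.Helper7

open Cfsg.Agent.Lib

/-- conjugation action of a subgroup `A` on a subgroup `Q` it normalises -/
@[reducible] def conjMulAction {G : Type*} [Group G] (A Q : Subgroup G)
    (h : A ≤ Subgroup.normalizer (Q : Set G)) : MulAction A Q where
  smul a y := ⟨(a : G) * y * (a : G)⁻¹, (Subgroup.mem_normalizer_iff.mp (h a.2) y).mp y.2⟩
  one_smul y := by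
    apply Subtype.ext
    show ((1 : A) : G) * y * ((1 : A) : G)⁻¹ = y
    simp
  mul_smul a b y := by
    apply Subtype.ext
    show ((a * b : A) : G) * y * ((a * b : A) : G)⁻¹ = (a : G) * ((b : G) * y * (b : G)⁻¹) * (a : G)⁻¹
    simp [mul_assoc]

/-- a `p`-group `A` normalising `Q`: `|Q| ≡ |C_Q(A)|` mod `p` -/
theorem card_modEq_card_inf_centralizer {G : Type*} [Group G] [Finite G] (p : ℕ) [Fact p.Prime]
    (A Q : Subgroup G) (hA : IsPGroup p A) (h : A ≤ Subgroup.normalizer (Q : Set G)) :
    Nat.card Q ≡ Nat.card ↥(Q ⊓ Subgroup.centralizer (A : Set G)) [MOD p] := by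
  letI := conjMulAction A Q h
  have h1 := hA.card_modEq_card_fixedPoints Q
  have e : ↥(MulAction.fixedPoints A Q) ≃ ↥(Q ⊓ Subgroup.centralizer (A : Set G)) :=
    { toFun := fun y => ⟨(y.1 : G), y.1.2, by
        show (y.1 : G) ∈ Subgroup.centralizer (A : Set G)
        rw [Subgroup.mem_centralizer_iff]
        intro a ha
        have h2 := y.2 ⟨a, ha⟩
        have h3 : a * (y.1 : G) * a⁻¹ = (y.1 : G) := congrArg Subtype.val h2
        calc a * (y.1 : G) = a * (y.1 : G) * a⁻¹ * a := by group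
          _ = (y.1 : G) * a := by rw [h3]⟩
      invFun := fun z => ⟨⟨(z : G), z.2.1⟩, by
        intro a
        apply Subtype.ext
        show (a : G) * (z : G) * (a : G)⁻¹ = (z : G)
        have h2 := Subgroup.mem_centralizer_iff.mp z.2.2 a a.2
        rw [h2]; group⟩
      left_inv := fun y => rfl
      right_inv := fun z => rfl }
  rw [Nat.card_congr e] at h1
  exact h1

/-- `G = PK` with `K` a normal `p'`-subgroup: each prime-power part of the number of Sylow
`p`-subgroups is congruent to 1 mod `p`. -/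
theorem coprime_case {G : Type*} [Group G] [Finite G] (p : ℕ) [Fact p.Prime]
    (K : Subgroup G) [K.Normal] (P : Sylow p G) (hPK : (P : Subgroup G) ⊔ K = ⊤)
    (hcop : (Nat.card K).Coprime p) (q : ℕ) (hq : q.Prime) :
    q ^ (Nat.card (Sylow p G)).factorization q ≡ 1 [MOD p] := by
  classical
  haveI : Fact q.Prime := ⟨hq⟩
  have hp : p.Prime := Fact.out
  set NP := Subgroup.normalizer ((P : Subgroup G) : Set G) with hNP
  set C := NP ⊓ K with hC
  -- n * |C| = |K|
  have hn : Nat.card (Sylow p G) * Nat.card C = Nat.card K := by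
    rw [Cfsg.Agent.S4341.card_sylow_eq p P, ← Subgroup.relIndex_top_right]
    have h1 : NP ⊔ K = ⊤ := by
      apply top_le_iff.mp
      rw [← hPK]
      exact sup_le_sup_right Subgroup.le_normalizer K
    rw [← h1, relIndex_sup_of_normal]
    exact Cfsg.Agent.S4341.relIndex_mul_card_inf NP K
  -- P ⊓ K = ⊥
  have hdisj : ∀ g : G, g ∈ (P : Subgroup G) → g ∈ K → g = 1 := by
    intro g hgP hgK
    have h1 : (P : Subgroup G) ⊓ K = ⊥ := by
      apply Subgroup.eq_bot_of_card_eq
      have h2 : IsPGroup p ↥((P : Subgroup G) ⊓ K) := P.isPGroup'.to_inf_left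
      obtain ⟨k, hk⟩ := IsPGroup.iff_card.mp h2
      have h3 : Nat.card ↥((P : Subgroup G) ⊓ K) ∣ Nat.card K := Subgroup.card_dvd_of_le inf_le_right
      have h4 : (Nat.card ↥((P : Subgroup G) ⊓ K)).Coprime p := Nat.Coprime.coprime_dvd_left h3 hcop
      rw [hk] at h4 ⊢
      rcases Nat.eq_zero_or_pos k with h0 | h0
      · rw [h0, pow_zero]
      · exfalso
        have h5 : p ∣ p ^ k := dvd_pow_self p h0.ne'
        have h6 := Nat.Coprime.coprime_dvd_left h5 h4
        rw [Nat.coprime_self] at h6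
        exact hp.one_lt.ne' h6
    have : g ∈ (P : Subgroup G) ⊓ K := ⟨hgP, hgK⟩
    rw [h1] at this
    exact Subgroup.mem_bot.mp this
  -- C centralises P
  have hCcent : C ≤ Subgroup.centralizer ((P : Subgroup G) : Set G) := by
    intro c hc
    rw [Subgroup.mem_centralizer_iff]
    intro x hx
    have hcN : c ∈ NP := hc.1
    have hcK : c ∈ K := hc.2
    have h1 : c * x * c⁻¹ * x⁻¹ ∈ (P : Subgroup G) := by
      have := (Subgroup.mem_normalizer_iff.mp hcN x).mp hx
      exact Subgroup.mul_mem _ this (Subgroup.inv_mem _ hx)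
    have h2 : c * x * c⁻¹ * x⁻¹ ∈ K := by
      have h3 : x * c⁻¹ * x⁻¹ ∈ K := Subgroup.Normal.conj_mem inferInstance _ (K.inv_mem hcK) x
      have : c * x * c⁻¹ * x⁻¹ = c * (x * c⁻¹ * x⁻¹) := by group
      rw [this]
      exact K.mul_mem hcK h3
    have h4 := hdisj _ h1 h2
    calc x * c = (c * x * c⁻¹ * x⁻¹)⁻¹ * (c * x) := by group
      _ = c * x := by rw [h4]; group
  -- a Sylow q-subgroup R of C
  obtain ⟨R, hR, -⟩ := Helper8.exists_sylIn_ge (p := q) (K := C) (Q := ⊥)
    (IsPGroup.of_bot) bot_le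
  obtain ⟨R0, hR0⟩ := (Helper8.sylIn_iff hR.1).mp hR
  have hRcard : Nat.card R = q ^ (Nat.card C).factorization q := by
    rw [← Sylow.card_eq_multiplicity R0]
    rw [show ((R0 : Subgroup C) : Type _) = ↥(R.subgroupOf C) by rw [hR0]]
    exact (Nat.card_congr (Subgroup.subgroupOfEquivOfLe hR.1).toEquiv).symm
  have hRK : R ≤ K := hR.1.trans inf_le_right
  have hPR : (P : Subgroup G) ≤ Subgroup.normalizer (R : Set G) := by
    have h1 : R ≤ Subgroup.centralizer ((P : Subgroup G) : Set G) := hR.1.trans hCcent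
    exact (Subgroup.le_centralizer_iff.mp h1).trans (Subgroup.centralizer_le_normalizer _)
  have hsolv : Group.IsSolvable (P : Subgroup G) := by
    haveI := P.isPGroup'.isNilpotent
    infer_instance
  have hcop' : (Nat.card (P : Subgroup G)).Coprime (Nat.card K) := by
    obtain ⟨k, hk⟩ := IsPGroup.iff_card.mp P.isPGroup'
    rw [hk]
    exact Nat.Coprime.pow_left _ hcop.symm
  obtain ⟨Q, hRQ, hPQ⟩ := Lead.invariant_pgroup_le_invariant_sylow (P : Subgroup G) K
    (by rw [Subgroup.normalizer_eq_top]; exact le_top) hcop' (Or.inl hsolv) q R hRK hR.2.1 hPR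
  set Q' := (Q : Subgroup K).map K.subtype with hQ'
  have hQcard : Nat.card Q' = q ^ (Nat.card K).factorization q := by
    rw [← Sylow.card_eq_multiplicity Q]
    exact Subgroup.card_map_of_injective K.subtype_injective
  have hQ'K : Q' ≤ K := by
    rintro _ ⟨x, -, rfl⟩
    exact x.2
  have hQ'q : IsPGroup q Q' := Q.isPGroup'.map _
  -- fixed points
  have hfix : Q' ⊓ Subgroup.centralizer ((P : Subgroup G) : Set G) = R := by
    apply hR.2.2
    · exact hQ'q.to_inf_left
    · exact le_inf hRQ (hR.1.trans hCcent)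
    · exact le_inf (inf_le_right.trans (Subgroup.centralizer_le_normalizer _)) (inf_le_left.trans hQ'K)
  have hmod := card_modEq_card_inf_centralizer p (P : Subgroup G) Q' P.isPGroup' hPQ
  rw [hfix, hQcard, hRcard, ← hn] at hmod
  have hn0 : Nat.card (Sylow p G) ≠ 0 := Nat.card_pos.ne'
  have hC0 : Nat.card C ≠ 0 := Nat.card_pos.ne'
  rw [Nat.factorization_mul hn0 hC0, Finsupp.add_apply, pow_add, mul_comm] at hmod
  have hcopR : p.gcd (q ^ (Nat.card C).factorization q) = 1 := by
    rw [← hRcard]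
    have : Nat.card R ∣ Nat.card K := Subgroup.card_dvd_of_le hRK
    exact (Nat.Coprime.coprime_dvd_left this hcop).symm
  apply Nat.ModEq.cancel_left_of_coprime hcopR
  rw [mul_one]
  exact hmod

end Cfsg.Agent.Lib.Helper7
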