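import Mathlib
import Cfsg.Agent.Lib.Lead.Char17
import Cfsg.Agent.Lib.Lead.BF1
import Cfsg.Agent.Lib.Helper7.CharCenter
import Cfsg.Agent.Lib.Helper7.Codeg
import Cfsg.Agent.Lib.Helper7.LinTwist
import Cfsg.Agent.Lib.Helper7.PDeg
import Cfsg.Agent.Lib.Helper7.PPrime
import Cfsg.Agent.S0581

/-!
Character degrees of `p`-groups and extraspecial `2`-groups; nilpotent groups with a unique
irreducible character of degree divisible by `p`.
-/

namespace Cfsg.Agent.Lib.Helper7.Extra

open Cfsg.Agent.Lib.Lead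
open scoped commutatorElement

theorem pgroup_deg {G : Type*} [Group G] [Finite G] (p : ℕ) [Fact p.Prime] (hG : IsPGroup p G)
    (χ : Cfsg.IrrCharacter G) : p ∣ Cfsg.charDegree χ.1 ↔ Cfsg.charDegree χ.1 ≠ 1 := by
  have hp : p.Prime := Fact.out
  obtain ⟨n, hn⟩ := IsPGroup.iff_card.mp hG
  obtain ⟨hpos, -, hdvd⟩ := DZ.charDegree_spec χ
  rw [hn] at hdvd
  obtain ⟨j, -, hj⟩ := (Nat.dvd_prime_pow hp).mp hdvd
  rw [hj]
  constructor
  · intro h h1
    rw [h1] at h
    exact hp.one_lt.ne' (Nat.dvd_one.mp h)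
  · intro h
    have : j ≠ 0 := by rintro rfl; exact h (pow_zero p)
    exact dvd_pow_self p this

theorem deg_one_iff {G : Type*} [Group G] [Finite G] (χ : Cfsg.IrrCharacter G) :
    Cfsg.charDegree χ.1 = 1 ↔ χ.1 1 = 1 := by
  obtain ⟨hpos, h1, -⟩ := DZ.charDegree_spec χ
  rw [h1]
  constructor
  · intro h; rw [h]; simp
  · intro h; exact_mod_cast h

/-- `|G : G'| + ∑ (nonlinear) χ(1)² = |G|` -/
theorem sum_split {G : Type*} [Group G] [Finite G] [Fintype (Cfsg.IrrCharacter G)]
    [DecidableEq (Cfsg.IrrCharacter G)] :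
    (commutator G).index + ∑ χ ∈ Finset.univ.filter
      (fun χ : Cfsg.IrrCharacter G => Cfsg.charDegree χ.1 ≠ 1), (Cfsg.charDegree χ.1) ^ 2
      = Nat.card G := by
  classical
  rw [← sum_deg_sq_nat (G := G),
    ← Finset.sum_filter_add_sum_filter_not Finset.univ
      (fun χ : Cfsg.IrrCharacter G => Cfsg.charDegree χ.1 = 1)]
  congr 1
  have h1 : ∀ χ ∈ Finset.univ.filter (fun χ : Cfsg.IrrCharacter G => Cfsg.charDegree χ.1 = 1),
      (Cfsg.charDegree χ.1) ^ 2 = 1 := by
    intro χ hχ
    rw [(Finset.mem_filter.mp hχ).2]; rfl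
  rw [Finset.sum_congr rfl h1, Finset.sum_const, smul_eq_mul, mul_one, ← card_linear_char,
    Nat.card_eq_fintype_card, Fintype.card_subtype]
  congr 1
  ext χ
  simp only [Finset.mem_filter, Finset.mem_univ, true_and]
  exact (deg_one_iff χ).symm

/-- an irreducible character of an abelian group is linear -/
theorem deg_one_of_comm {A : Type*} [Group A] [Finite A] (hA : ∀ a b : A, a * b = b * a)
    (ψ : Cfsg.IrrCharacter A) : ψ.1 1 = 1 := by
  obtain ⟨n, ρ, hρ, hρχ⟩ := ψ.2
  haveI := hρ
  have h1 := deg_le_index_abelian ρ ⊤ (fun a _ b _ => hA a b)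
  rw [Subgroup.index_top] at h1
  have h2 : 0 < Module.finrank ℂ (Fin n → ℂ) := by
    have := ((irr_iff ρ).mp hρ).1
    exact Module.finrank_pos
  rw [← hρχ, Representation.char_one]
  have : Module.finrank ℂ (Fin n → ℂ) = 1 := by omega
  rw [this]; simp

theorem sum_normSq {G : Type*} [Group G] [Fintype G] (χ : Cfsg.IrrCharacter G) :
    ∑ g : G, Complex.normSq (χ.1 g) = (Nat.card G : ℝ) := by
  have hself := irr_inner_self χ
  unfold Cfsg.classInner at hself
  have hne : (Nat.card G : ℂ) ≠ 0 := by exact_mod_cast Nat.card_pos.ne'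
  have h1 : ∑ g : G, ((Complex.normSq (χ.1 g) : ℝ) : ℂ) = (Nat.card G : ℂ) := by
    have h0 : ∑ g : G, χ.1 g * (starRingEnd ℂ) (χ.1 g) = (Nat.card G : ℂ) := by
      have h00 := congrArg (fun t => (Nat.card G : ℂ) * t) hself
      simp only [mul_one] at h00
      rw [← h00, ← mul_assoc, mul_inv_cancel₀ hne, one_mul]
    rw [← h0]
    apply Finset.sum_congr rfl
    intro g _
    rw [Complex.mul_conj]
  exact_mod_cast h1

/-- In a group with `G' = Z(G)` of order 2, a nonlinear irreducible character has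
`2 χ(1)² = |G|`. -/
theorem extra_deg_sq {G : Type*} [Group G] [Finite G]
    (hcomm : commutator G = Subgroup.center G) (hZ : Nat.card (Subgroup.center G) = 2)
    (χ : Cfsg.IrrCharacter G) (hχ : Cfsg.charDegree χ.1 ≠ 1) :
    2 * (Cfsg.charDegree χ.1) ^ 2 = Nat.card G := by
  classical
  haveI : Fintype G := Fintype.ofFinite G
  obtain ⟨c', hc', hc'u⟩ := (Nat.card_eq_two_iff' (1 : Subgroup.center G)).mp hZ
  have hZc : ∀ z ∈ Subgroup.center G, z ≠ 1 → z = (c' : G) := by
    intro z hz hz1
    have := hc'u ⟨z, hz⟩ (by intro h; apply hz1; exact congrArg Subtype.val h)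
    exact congrArg Subtype.val this
  have hcZ : (c' : G) ∈ Subgroup.center G := c'.2
  obtain ⟨n, ρ, hρ, hρχ⟩ := χ.2
  haveI := hρ
  obtain ⟨ω, hω⟩ := Cfsg.Agent.Lib.Helper7.central_scalar ρ (c' : G) hcZ
  have hmul : ∀ g : G, χ.1 (g * (c' : G)) = ω * χ.1 g := by
    intro g; rw [← hρχ]; exact Cfsg.Agent.Lib.Helper7.character_mul_scalar ρ g (c' : G) ω hω
  obtain ⟨hpos, hd1, -⟩ := DZ.charDegree_spec χ
  have hne0 : χ.1 1 ≠ 0 := irr_deg_ne_zero χ
  have hω1 : ω ≠ 1 := by
    intro h
    apply hχ
    have htriv : ∀ k ∈ commutator G, χ.1 k = χ.1 1 := by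
      intro k hk
      rw [hcomm] at hk
      by_cases hk1 : k = 1
      · rw [hk1]
      · rw [hZc k hk hk1]
        have := hmul 1
        rw [one_mul, h, one_mul] at this
        exact this
    obtain ⟨ψ, hψ⟩ := Codeg.exists_irr_quot χ (commutator G) htriv
    have hψ1 := deg_one_of_comm (A := G ⧸ commutator G)
      (fun a b => mul_comm (G := Abelianization G) a b) ψ
    have h2 : χ.1 1 = 1 := by rw [← hψ 1]; exact hψ1
    rw [hd1] at h2
    exact_mod_cast h2
  have hvan : ∀ g : G, g ∉ Subgroup.center G → χ.1 g = 0 := by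
    intro g hg
    have hex : ∃ h : G, h * g * h⁻¹ * g⁻¹ ≠ 1 := by
      by_contra hall
      push Not at hall
      apply hg
      rw [Subgroup.mem_center_iff]
      intro h
      have h2 := hall h
      rw [mul_inv_eq_one, mul_inv_eq_iff_eq_mul] at h2
      exact h2
    obtain ⟨h, hh⟩ := hex
    have hmem : h * g * h⁻¹ * g⁻¹ ∈ commutator G := by
      rw [commutator_def]
      exact Subgroup.commutator_mem_commutator (Subgroup.mem_top h) (Subgroup.mem_top g)
    rw [hcomm] at hmem
    have heq : h * g * h⁻¹ * g⁻¹ = (c' : G) := hZc _ hmem hh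
    have hcg : g * (c' : G) = (c' : G) * g := Subgroup.mem_center_iff.mp hcZ g
    have h3 : h * g * h⁻¹ = g * (c' : G) := by
      rw [hcg, ← heq]; group
    have hcf := isClassFunction_of_irr χ
    have h4 : χ.1 (h * g * h⁻¹) = χ.1 g := hcf g h
    rw [h3, hmul] at h4
    have h5 : (ω - 1) * χ.1 g = 0 := by rw [sub_mul, h4, one_mul, sub_self]
    rcases mul_eq_zero.mp h5 with h6 | h6
    · exact absurd (sub_eq_zero.mp h6) hω1
    · exact h6
  have h2 := sum_normSq χ
  have h3 : ∑ g : G, Complex.normSq (χ.1 g)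
      = ∑ g : G, (if g ∈ Subgroup.center G then Complex.normSq (χ.1 1) else 0) := by
    apply Finset.sum_congr rfl
    intro g _
    split_ifs with hg
    · exact CC.central_normSq χ g hg
    · rw [hvan g hg]; simp
  rw [Finset.sum_ite, Finset.sum_const_zero, add_zero, Finset.sum_const, nsmul_eq_mul] at h3
  have h4 : (Finset.univ.filter (fun g : G => g ∈ Subgroup.center G)).card
      = Nat.card (Subgroup.center G) := by
    rw [Nat.card_eq_fintype_card, Fintype.card_subtype]
  rw [h4, hZ, hd1, Complex.normSq_natCast, h2] at h3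
  have h5 : ((2 * (Cfsg.charDegree χ.1) ^ 2 : ℕ) : ℝ) = (Nat.card G : ℝ) := by
    push_cast
    rw [pow_two]
    exact h3.symm
  exact_mod_cast h5

theorem arith_aux (a b d z : ℕ) (ha : 0 < a) (hd : 0 < d) (hz : 2 ≤ z)
    (h1 : a + d ^ 2 = a * b) (h2 : z * d ^ 2 ≤ a * b) : b = 2 ∧ z = 2 := by
  have hb : 1 ≤ b := by
    rcases Nat.eq_zero_or_pos b with h | h
    · rw [h, mul_zero] at h1; omega
    · exact h
  obtain ⟨b', rfl⟩ : ∃ b', b = b' + 1 := ⟨b - 1, by omega⟩
  have h3 : d ^ 2 = a * b' := by nlinarith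
  have h4 : z * (a * b') ≤ a * (b' + 1) := by rw [← h3]; exact h2
  have h5 : z * b' ≤ b' + 1 := by
    have : a * (z * b') ≤ a * (b' + 1) := by nlinarith
    exact Nat.le_of_mul_le_mul_left this ha
  have h6 : 1 ≤ b' := by
    rcases Nat.eq_zero_or_pos b' with h | h
    · rw [h, mul_zero] at h3
      have : 0 < d ^ 2 := by positivity
      omega
    · exact h
  have h7 : 2 * b' ≤ z * b' := Nat.mul_le_mul_right b' hz
  have h8 : b' = 1 := by omega
  subst h8
  constructor
  · rfl
  · omega

/-- A `p`-group with a unique nonlinear irreducible character has `|G'| = |Z(G)| = 2`. -/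
theorem pgroup_unique_nonlinear {G : Type*} [Group G] [Finite G] (p : ℕ) [Fact p.Prime]
    (hG : IsPGroup p G) (χ₀ : Cfsg.IrrCharacter G) (h0 : Cfsg.charDegree χ₀.1 ≠ 1)
    (huniq : ∀ χ : Cfsg.IrrCharacter G, Cfsg.charDegree χ.1 ≠ 1 → χ = χ₀) :
    Nat.card (commutator G) = 2 ∧ Nat.card (Subgroup.center G) = 2 := by
  classical
  haveI : Fintype (Cfsg.IrrCharacter G) := Fintype.ofFinite _
  have hsum := sum_split (G := G)
  have hfilter : Finset.univ.filter (fun χ : Cfsg.IrrCharacter G => Cfsg.charDegree χ.1 ≠ 1)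
      = {χ₀} := by
    ext χ
    simp only [Finset.mem_filter, Finset.mem_univ, true_and, Finset.mem_singleton]
    exact ⟨huniq χ, fun h => h ▸ h0⟩
  rw [hfilter, Finset.sum_singleton] at hsum
  have hcz := CC.card_mul_deg_sq_le χ₀ (Subgroup.center G) le_rfl
  have hidx := Subgroup.index_mul_card (commutator G)
  obtain ⟨hdpos, -, hddvd⟩ := DZ.charDegree_spec χ₀
  have ha : 0 < (commutator G).index := Nat.pos_of_ne_zero Subgroup.index_ne_zero_of_finite
  have hz : 2 ≤ Nat.card (Subgroup.center G) := by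
    haveI : Nontrivial G := by
      by_contra hnt
      rw [not_nontrivial_iff_subsingleton] at hnt
      have : Nat.card G = 1 := Nat.card_eq_one_iff_unique.mpr ⟨hnt, ⟨1⟩⟩
      rw [this] at hddvd
      exact h0 (Nat.dvd_one.mp hddvd)
    haveI := hG.center_nontrivial
    exact Finite.one_lt_card
  rw [← hidx] at hsum hcz
  exact arith_aux _ _ _ _ ha hdpos hz hsum hcz

theorem comm_eq_center {G : Type*} [Group G] [Finite G] (h2 : Nat.card (commutator G) = 2)
    (hZ : Nat.card (Subgroup.center G) = 2) : commutator G = Subgroup.center G := by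
  apply Subgroup.eq_of_le_of_card_ge
  · intro x hx
    rw [Subgroup.mem_center_iff]
    intro g
    by_cases hx1 : x = 1
    · rw [hx1, mul_one, one_mul]
    · obtain ⟨c', hc', hc'u⟩ := (Nat.card_eq_two_iff' (1 : commutator G)).mp h2
      have hconj : g * x * g⁻¹ ∈ commutator G :=
        (inferInstance : (commutator G).Normal).conj_mem x hx g
      have e1 : (⟨x, hx⟩ : commutator G) = c' :=
        hc'u _ (fun h => hx1 (congrArg Subtype.val h))
      have e2 : (⟨g * x * g⁻¹, hconj⟩ : commutator G) = c' := hc'u _ (fun h => by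
        have h3 : g * x * g⁻¹ = 1 := congrArg Subtype.val h
        rw [mul_inv_eq_one] at h3
        exact hx1 (mul_left_cancel (h3.trans (mul_one g).symm)))
      have h4 : g * x * g⁻¹ = x := congrArg Subtype.val (e2.trans e1.symm)
      rw [mul_inv_eq_iff_eq_mul] at h4
      exact h4
  · rw [h2, hZ]

theorem comm_central_left {G : Type*} [Group G] (m h z : G) (hz : z ∈ Subgroup.center G) :
    ⁅m * z, h⁆ = ⁅m, h⁆ := by
  have := Subgroup.mem_center_iff.mp hz h
  rw [commutatorElement_def, commutatorElement_def, mul_assoc m z h, ← this]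
  group

theorem center_le_frattini {G : Type*} [Group G]
    (hcomm : commutator G = Subgroup.center G) : Subgroup.center G ≤ frattini G := by
  unfold frattini Order.radical
  apply le_iInf₂
  intro M hM
  by_contra hZM
  have htop : M ⊔ Subgroup.center G = ⊤ := by
    by_contra hne
    have hlt : M < M ⊔ Subgroup.center G :=
      lt_of_le_of_ne le_sup_left (fun h => hZM (h ▸ le_sup_right))
    exact hne (hM.2 _ hlt)
  apply hZM
  rw [← hcomm, commutator_def, Subgroup.commutator_le]
  intro g _ h _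
  have hg : g ∈ ((M ⊔ Subgroup.center G : Subgroup G) : Set G) := by
    rw [htop]; exact Set.mem_univ g
  have hh : h ∈ ((M ⊔ Subgroup.center G : Subgroup G) : Set G) := by
    rw [htop]; exact Set.mem_univ h
  rw [Subgroup.mul_normal] at hg hh
  obtain ⟨m, hm, z, hz, rfl⟩ := Set.mem_mul.mp hg
  obtain ⟨m', hm', z', hz', rfl⟩ := Set.mem_mul.mp hh
  rw [comm_central_left m (m' * z') z hz, ← commutatorElement_inv,
    comm_central_left m' m z' hz', commutatorElement_inv]
  exact Subgroup.commutator_mem_commutator hm hm' |> fun _ => by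
    rw [commutatorElement_def]
    exact M.mul_mem (M.mul_mem (M.mul_mem hm hm') (M.inv_mem hm)) (M.inv_mem hm')

theorem frattini_le_center {G : Type*} [Group G]
    (hcomm : commutator G = Subgroup.center G) (hZ : Nat.card (Subgroup.center G) = 2) :
    frattini G ≤ Subgroup.center G := by
  obtain ⟨c', hc', hc'u⟩ := (Nat.card_eq_two_iff' (1 : Subgroup.center G)).mp hZ
  intro x hx
  rw [Subgroup.mem_center_iff]
  intro y
  by_contra hxy
  have key : ∀ b : G, b ∉ Subgroup.centralizer ({y} : Set G) →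
      b * y * b⁻¹ * y⁻¹ = (c' : G) := by
    intro b hb
    have hmem : b * y * b⁻¹ * y⁻¹ ∈ Subgroup.center G := by
      rw [← hcomm, commutator_def]
      exact Subgroup.commutator_mem_commutator (Subgroup.mem_top b) (Subgroup.mem_top y)
    have hne : b * y * b⁻¹ * y⁻¹ ≠ 1 := by
      intro h1
      apply hb
      rw [Subgroup.mem_centralizer_iff]
      intro w hw
      rw [Set.mem_singleton_iff] at hw
      rw [hw]
      rw [mul_inv_eq_one, mul_inv_eq_iff_eq_mul] at h1
      exact h1.symm
    exact congrArg Subtype.val (hc'u ⟨_, hmem⟩ (fun h => hne (congrArg Subtype.val h)))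
  have hco : IsCoatom (Subgroup.centralizer ({y} : Set G)) := by
    constructor
    · intro htop
      have hxc : x ∈ Subgroup.centralizer ({y} : Set G) := htop ▸ Subgroup.mem_top x
      rw [Subgroup.mem_centralizer_iff] at hxc
      exact hxy (hxc y rfl)
    · intro H hlt
      obtain ⟨h, hH, hnot⟩ := SetLike.exists_of_lt hlt
      rw [eq_top_iff]
      intro g _
      by_cases hg : g ∈ Subgroup.centralizer ({y} : Set G)
      · exact hlt.le hg
      · have e : g * y * g⁻¹ * y⁻¹ = h * y * h⁻¹ * y⁻¹ := (key g hg).trans (key h hnot).symm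
        have e2 : g * y * g⁻¹ = h * y * h⁻¹ := mul_right_cancel e
        have hmem : h⁻¹ * g ∈ Subgroup.centralizer ({y} : Set G) := by
          rw [Subgroup.mem_centralizer_iff]
          intro w hw
          rw [Set.mem_singleton_iff] at hw
          rw [hw]
          have e3 : g * y = h * y * h⁻¹ * g := by
            rw [← e2]; group
          calc y * (h⁻¹ * g) = h⁻¹ * (h * y * h⁻¹ * g) := by group
            _ = h⁻¹ * (g * y) := by rw [e3]
            _ = h⁻¹ * g * y := by group
        have e4 : g = h * (h⁻¹ * g) := by group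
        rw [e4]
        exact H.mul_mem hH (hlt.le hmem)
  have hxc := frattini_le_coatom hco hx
  rw [Subgroup.mem_centralizer_iff] at hxc
  exact hxy (hxc y rfl)

end Cfsg.Agent.Lib.Helper7.Extra
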