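import Mathlib

set_option autoImplicit false

namespace Cfsg.Agent.Lib.Helper7

/-- a group acting freely on a finite set has order dividing the size of the set -/
theorem card_dvd_of_free {A X : Type*} [Group A] [MulAction A X] [Finite A] [Finite X]
    (hfree : ∀ (a : A) (x : X), a • x = x → a = 1) : Nat.card A ∣ Nat.card X := by
  classical
  haveI : Fintype A := Fintype.ofFinite A
  haveI : Fintype X := Fintype.ofFinite X
  haveI : Fintype (Quotient (MulAction.orbitRel A X)) := Fintype.ofFinite _
  haveI : ∀ a : A, Fintype (MulAction.fixedBy X a) := fun a => Fintype.ofFinite _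
  have hB := MulAction.sum_card_fixedBy_eq_card_orbits_mul_card_group A X
  rw [Finset.sum_eq_single (1 : A)] at hB
  · rw [Nat.card_eq_fintype_card, Nat.card_eq_fintype_card]
    have h1 : Fintype.card (MulAction.fixedBy X (1 : A)) = Fintype.card X := by
      apply Fintype.card_congr
      exact (Equiv.subtypeUnivEquiv (fun x => by simp [MulAction.mem_fixedBy]))
    rw [h1] at hB
    exact ⟨_, by rw [hB, mul_comm]⟩
  · intro a _ ha
    rw [Fintype.card_eq_zero_iff]
    exact ⟨fun ⟨x, hx⟩ => ha (hfree a x hx)⟩
  · intro h; exact absurd (Finset.mem_univ _) h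

end Cfsg.Agent.Lib.Helper7
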