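import Mathlib
import Cfsg.Agent.S4343
import Cfsg.Agent.S4303
import Cfsg.Agent.Lib.Lead.IndexTwo

set_option autoImplicit false

/-! Simple groups whose number of Sylow `p`-subgroups is `2p+1` (helper7). -/

namespace Cfsg.Agent.Lib.Helper7.NP2

open Cfsg.Agent.Lib

/-- a `p`-group acting on a set with an invariant subset `F`:
`|F| ≡ |F ∩ Fix|` mod `p` -/
theorem card_invariant_modEq {G α : Type*} [Group G] [MulAction G α] [Finite α] {p : ℕ}
    [Fact p.Prime] (hG : IsPGroup p G) (F : Set α) (hF : ∀ g : G, ∀ a ∈ F, g • a ∈ F) :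
    Nat.card F ≡ Nat.card ↥(F ∩ MulAction.fixedPoints G α) [MOD p] := by
  letI : MulAction G F :=
    { smul := fun g a => ⟨g • a.1, hF g a.1 a.2⟩
      one_smul := fun a => Subtype.ext (one_smul G a.1)
      mul_smul := fun g h a => Subtype.ext (mul_smul g h a.1) }
  have h1 := hG.card_modEq_card_fixedPoints F
  have e : ↥(MulAction.fixedPoints G F) ≃ ↥(F ∩ MulAction.fixedPoints G α) :=
    { toFun := fun a => ⟨a.1.1, a.1.2, fun g => congrArg Subtype.val (a.2 g)⟩
      invFun := fun b => ⟨⟨b.1, b.2.1⟩, fun g => Subtype.ext (b.2.2 g)⟩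
      left_inv := fun a => rfl
      right_inv := fun b => rfl }
  rw [Nat.card_congr e] at h1
  exact h1

variable {S : Type*} [Group S] [Finite S]

/-- the only Sylow `p`-subgroup fixed by `P` is `P` -/
theorem fixedPoints_sylow {p : ℕ} [Fact p.Prime] (P : Sylow p S) :
    MulAction.fixedPoints (P : Subgroup S) (Sylow p S) = {P} := by
  ext Q
  rw [Set.mem_singleton_iff, MulAction.mem_fixedPoints]
  constructor
  · intro h
    have h1 : MulAction.stabilizer (P : Subgroup S) Q = ⊤ := by
      rw [eq_top_iff]
      intro x _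
      exact h x
    rw [Cfsg.Agent.S4343.stab_eq, Subgroup.subgroupOf_eq_top] at h1
    exact Sylow.ext (P.3 Q.2 h1)
  · rintro rfl x
    exact Sylow.smul_eq_iff_mem_normalizer.mpr (Subgroup.le_normalizer x.2)

/-- the conjugation action on Sylow subgroups of a simple group with more than one Sylow
subgroup is faithful -/
theorem ker_toPermHom_eq_bot [IsSimpleGroup S] {p : ℕ} [Fact p.Prime]
    (hn : Nat.card (Sylow p S) ≠ 1) : (MulAction.toPermHom S (Sylow p S)).ker = ⊥ := by
  rcases (MonoidHom.normal_ker (MulAction.toPermHom S (Sylow p S))).eq_bot_or_eq_top with h | h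
  · exact h
  · exfalso
    apply hn
    let P : Sylow p S := default
    have hall : ∀ Q : Sylow p S, Q = P := by
      intro Q
      obtain ⟨g, hg⟩ := MulAction.exists_smul_eq S P Q
      have hg' : g ∈ (MulAction.toPermHom S (Sylow p S)).ker := by rw [h]; trivial
      rw [MonoidHom.mem_ker] at hg'
      have h2 : (MulAction.toPermHom S (Sylow p S)) g P = P := by rw [hg']; rfl
      rw [← hg]
      exact h2
    haveI : Subsingleton (Sylow p S) := ⟨fun a b => by rw [hall a, hall b]⟩
    exact Nat.card_unique

/-- in a non-abelian simple group with `2p+1` Sylow `p`-subgroups (`p` odd), no element of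
prime order `r ≠ p` centralises a Sylow `p`-subgroup -/
theorem no_prime_order_centralizer [IsSimpleGroup S] (hS : ¬ IsMulCommutative S) {p : ℕ}
    [Fact p.Prime] (hodd : Odd p) (hn : Nat.card (Sylow p S) = 2 * p + 1) (P : Sylow p S)
    (k : S) (hk : k ∈ Subgroup.centralizer ((P : Subgroup S) : Set S)) (r : ℕ) (hr : r.Prime)
    (hrp : r ≠ p) (hord : orderOf k = r) : False := by
  classical
  haveI : Fintype (Sylow p S) := Fintype.ofFinite _
  have hpp : p.Prime := Fact.out
  haveI : Fact r.Prime := ⟨hr⟩
  have hn1 : Nat.card (Sylow p S) ≠ 1 := by rw [hn]; have := hpp.pos; omega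
  have hker := ker_toPermHom_eq_bot (S := S) (p := p) hn1
  have hinj : Function.Injective (MulAction.toPermHom S (Sylow p S)) :=
    (MonoidHom.ker_eq_bot_iff _).mp hker
  have hk1 : k ≠ 1 := by
    rintro rfl
    rw [orderOf_one] at hord
    exact hr.one_lt.ne' hord.symm
  set F : Set (Sylow p S) := MulAction.fixedBy (Sylow p S) k with hF
  have hPF : P ∈ F := by
    rw [hF, MulAction.mem_fixedBy]
    exact Sylow.smul_eq_iff_mem_normalizer.mpr (Subgroup.centralizer_le_normalizer _ hk)
  have h1 : Nat.card F ≡ 1 [MOD p] := by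
    have h2 := card_invariant_modEq (G := (P : Subgroup S)) (α := Sylow p S) P.2 F (by
      intro x Q hQ
      rw [hF, MulAction.mem_fixedBy] at hQ ⊢
      have hc : (x : S) * k = k * x := Subgroup.mem_centralizer_iff.mp hk x x.2
      show k • ((x : S) • Q) = (x : S) • Q
      rw [← mul_smul, ← hc, mul_smul, hQ])
    rw [fixedPoints_sylow, Set.inter_eq_right.mpr (Set.singleton_subset_iff.mpr hPF)] at h2
    simpa using h2
  have h3 : Nat.card (Sylow p S) ≡ Nat.card F [MOD r] := by
    have hpg : IsPGroup r (Subgroup.zpowers k) :=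
      IsPGroup.of_card (n := 1) (by rw [Nat.card_zpowers, hord, pow_one])
    have h4 := hpg.card_modEq_card_fixedPoints (Sylow p S)
    have h5 : MulAction.fixedPoints (Subgroup.zpowers k) (Sylow p S) = F := by
      ext Q
      rw [MulAction.mem_fixedPoints, hF, MulAction.mem_fixedBy]
      constructor
      · intro h; exact h ⟨k, Subgroup.mem_zpowers k⟩
      · intro h g
        have : Subgroup.zpowers k ≤ MulAction.stabilizer S Q := by
          rw [Subgroup.zpowers_le]; exact h
        exact this g.2
    rw [h5] at h4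
    exact h4
  have hle : Nat.card F ≤ 2 * p + 1 := by
    rw [← hn]
    exact Nat.card_le_card_of_injective Subtype.val Subtype.val_injective
  have hmod : Nat.card F % p = 1 := by
    have := h1
    rw [Nat.ModEq, Nat.mod_eq_of_lt hpp.one_lt] at this
    exact this
  have hdiv := Nat.div_add_mod (Nat.card F) p
  rw [hmod] at hdiv
  have hj : Nat.card F / p ≤ 2 := by
    by_contra hcon
    push Not at hcon
    have : p * 3 ≤ p * (Nat.card F / p) := Nat.mul_le_mul_left p hcon
    omega
  rw [hn] at h3
  have hcases : Nat.card F / p = 0 ∨ Nat.card F / p = 1 ∨ Nat.card F / p = 2 := by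
    generalize Nat.card ↑F / p = j at hj
    omega
  rcases hcases with h0 | h0 | h0
  · -- exactly one fixed point
    rw [h0, mul_zero, zero_add] at hdiv
    rw [← hdiv] at h3
    have hr2 : r ∣ 2 * p := by
      have := (Nat.modEq_iff_dvd' (by omega : 1 ≤ 2 * p + 1)).mp h3.symm
      simpa using this
    have hr2' : r = 2 := by
      rcases (Nat.Prime.dvd_mul hr).mp hr2 with h | h
      · exact (Nat.prime_dvd_prime_iff_eq hr Nat.prime_two).mp h
      · exact absurd ((Nat.prime_dvd_prime_iff_eq hr hpp).mp h) hrp
    subst hr2'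
    set σ := MulAction.toPermHom S (Sylow p S) k with hσ
    have hσ2 : σ ^ 2 = 1 := by
      rw [hσ, ← map_pow, ← hord, pow_orderOf_eq_one, map_one]
    have hσ1 : σ ≠ 1 := by
      intro h
      apply hk1
      apply hinj
      rw [map_one]
      exact h
    have hσord : orderOf σ = 2 := orderOf_eq_prime hσ2 hσ1
    obtain ⟨n, hn'⟩ := Equiv.Perm.cycleType_prime_order (σ := σ) (by rw [hσord]; exact Nat.prime_two)
    rw [hσord] at hn'
    have hfix := Equiv.Perm.card_fixedPoints σ
    have hFeq : Function.fixedPoints (⇑σ) = F := by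
      ext Q
      rw [Function.mem_fixedPoints, hF, MulAction.mem_fixedBy]
      rfl
    have hcF : Fintype.card ↑(Function.fixedPoints (⇑σ)) = 1 := by
      rw [← Nat.card_eq_fintype_card, hFeq]
      exact hdiv.symm
    rw [hcF, ← Nat.card_eq_fintype_card, hn, hn', Multiset.sum_replicate] at hfix
    have hnp : n + 1 = p := by
      simp only [smul_eq_mul] at hfix
      omega
    have hsign : Equiv.Perm.sign σ = -1 := by
      rw [Equiv.Perm.sign_of_cycleType, hn', Multiset.sum_replicate, Multiset.card_replicate, hnp]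
      have : Odd (p • 2 + p) := by
        obtain ⟨m, hm⟩ := hodd
        exact ⟨3 * m + 1, by simp only [smul_eq_mul]; omega⟩
      exact this.neg_one_pow
    set ψ := Equiv.Perm.sign.comp (MulAction.toPermHom S (Sylow p S)) with hψ
    have hψk : ψ k = -1 := hsign
    rcases (MonoidHom.normal_ker ψ).eq_bot_or_eq_top with h | h
    · apply hS
      exact ⟨⟨fun a b => (MonoidHom.ker_eq_bot_iff ψ).mp h (by rw [map_mul, map_mul, mul_comm])⟩⟩
    · have : k ∈ ψ.ker := by rw [h]; trivial
      rw [MonoidHom.mem_ker, hψk] at this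
      exact absurd this (by decide)
  · -- p + 1 fixed points
    rw [h0, mul_one] at hdiv
    rw [← hdiv] at h3
    have hrp' : r ∣ p := by
      have := (Nat.modEq_iff_dvd' (by omega : p + 1 ≤ 2 * p + 1)).mp h3.symm
      have e : 2 * p + 1 - (p + 1) = p := by omega
      rw [e] at this
      exact this
    exact hrp ((Nat.prime_dvd_prime_iff_eq hr hpp).mp hrp')
  · -- all fixed
    rw [h0] at hdiv
    have hall : F = Set.univ := by
      apply Set.eq_of_subset_of_ncard_le (Set.subset_univ F) _ (Set.toFinite _)
      rw [Set.ncard_univ, hn, ← Nat.card_coe_set_eq]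
      omega
    apply hk1
    apply hinj
    rw [map_one]
    apply Equiv.ext
    intro Q
    have : Q ∈ F := by rw [hall]; trivial
    rw [hF, MulAction.mem_fixedBy] at this
    show k • Q = Q
    exact this

/-- a subgroup of prime order is contained in its centraliser -/
theorem le_centralizer_of_prime_card {p : ℕ} [Fact p.Prime] (P : Subgroup S)
    (hP : Nat.card P = p) : P ≤ Subgroup.centralizer (P : Set S) := by
  haveI : IsCyclic P := isCyclic_of_prime_card hP
  obtain ⟨g, hg⟩ := IsCyclic.exists_generator (α := P)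
  intro x hx
  rw [Subgroup.mem_centralizer_iff]
  intro y hy
  obtain ⟨i, hi⟩ := Subgroup.mem_zpowers_iff.mp (hg ⟨x, hx⟩)
  obtain ⟨j, hj⟩ := Subgroup.mem_zpowers_iff.mp (hg ⟨y, hy⟩)
  have hx' : x = (g : S) ^ i := by
    have := congrArg Subtype.val hi
    simpa using this.symm
  have hy' : y = (g : S) ^ j := by
    have := congrArg Subtype.val hj
    simpa using this.symm
  rw [hx', hy', ← zpow_add, ← zpow_add, add_comm]

/-- `C_S(P) = P` -/
theorem centralizer_eq [IsSimpleGroup S] (hS : ¬ IsMulCommutative S) {p : ℕ}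
    [Fact p.Prime] (hodd : Odd p) (hn : Nat.card (Sylow p S) = 2 * p + 1) (P : Sylow p S)
    (hP : Nat.card P = p) : Subgroup.centralizer ((P : Subgroup S) : Set S) = P := by
  have hpp : p.Prime := Fact.out
  have hcard : Nat.card (Subgroup.centralizer ((P : Subgroup S) : Set S)) =
      p ^ (Nat.card (Subgroup.centralizer ((P : Subgroup S) : Set S))).primeFactorsList.length := by
    apply Nat.eq_prime_pow_of_unique_prime_dvd Nat.card_pos.ne'
    intro d hd hdvd
    by_contra hne
    haveI : Fact d.Prime := ⟨hd⟩
    obtain ⟨x, hx⟩ := exists_prime_orderOf_dvd_card' d hdvd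
    refine no_prime_order_centralizer hS hodd hn P (x : S) x.2 d hd hne ?_
    rw [Subgroup.orderOf_coe]
    exact hx
  exact P.3 (IsPGroup.of_card hcard) (le_centralizer_of_prime_card (P : Subgroup S) hP)

/-- the order of a non-abelian simple group with `2p+1` Sylow `p`-subgroups of order `p` -/
theorem card_eq [IsSimpleGroup S] (hS : ¬ IsMulCommutative S) {p : ℕ}
    [Fact p.Prime] (hodd : Odd p) (hn : Nat.card (Sylow p S) = 2 * p + 1) (P : Sylow p S)
    (hP : Nat.card P = p) :
    ∃ e, Odd e ∧ e ∣ p - 1 ∧ e ≠ 1 ∧ Nat.card S = (2 * p + 1) * p * e := by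
  classical
  have hpp : p.Prime := Fact.out
  have hp3 : 3 ≤ p := by
    obtain ⟨m, hm⟩ := hodd
    have := hpp.two_le
    omega
  have hC := centralizer_eq hS hodd hn P hP
  set N := Subgroup.normalizer ((P : Subgroup S) : Set S) with hN
  set e := (P : Subgroup S).relIndex N with he
  have hcardN : e * p = Nat.card N := by
    have := relIndex_mul_card_of_le (Subgroup.le_normalizer (H := (P : Subgroup S)))
    rw [hP] at this
    exact this
  have hcardS : Nat.card S = (2 * p + 1) * p * e := by
    have h1 := N.card_mul_index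
    rw [← Cfsg.Agent.S4341.card_sylow_eq p P, hn, ← hcardN] at h1
    rw [← h1]; ring
  haveI : IsCyclic (P : Subgroup S) := isCyclic_of_prime_card hP
  have hdvd : e ∣ p - 1 := by
    have key := Subgroup.card_dvd_of_injective _
      (QuotientGroup.kerLift_injective (P : Subgroup S).normalizerMonoidHom)
    rw [Subgroup.normalizerMonoidHom_ker, ← Subgroup.index, ← Subgroup.relIndex, hC,
      IsCyclic.card_mulAut, hP, Nat.totient_prime hpp] at key
    exact key
  have he1 : e ≠ 1 := by
    intro h1
    have hNP : N ≤ (P : Subgroup S) := Subgroup.relIndex_eq_one.mp h1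
    have hNC : Subgroup.normalizer ((P : Subgroup S) : Set S) ≤
        Subgroup.centralizer ((P : Subgroup S) : Set S) := by rw [hC]; exact hNP
    have hcompl := MonoidHom.ker_transferSylow_isComplement' P hNC
    have hcm := hcompl.card_mul_card
    rw [hP, hcardS, h1] at hcm
    rcases (MonoidHom.normal_ker (MonoidHom.transferSylow P hNC)).eq_bot_or_eq_top with h | h
    · rw [h, Subgroup.card_bot] at hcm
      have : p * 3 ≤ p * (2 * p + 1) := Nat.mul_le_mul_left p (by omega)
      nlinarith
    · rw [h, Subgroup.card_top, hcardS, h1] at hcm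
      have h2 : 0 < (2 * p + 1) * p * 1 := by positivity
      have : p = 1 := by
        have := Nat.eq_of_mul_eq_mul_left h2 (hcm.trans (mul_one _).symm)
        exact this
      omega
  refine ⟨e, ?_, hdvd, he1, hcardS⟩
  by_contra hnodd
  rw [Nat.not_odd_iff_even] at hnodd
  haveI : Fact (Nat.Prime 2) := ⟨Nat.prime_two⟩
  -- a Sylow 2-subgroup of N is cyclic
  let T' : Sylow 2 N := default
  haveI : Fact (Nat.card (P : Subgroup S)).Prime := ⟨by rw [hP]; exact hpp⟩
  haveI : IsCyclic (MulAut (P : Subgroup S)) :=
    isCyclic_of_injective (IsCyclic.mulAutMulEquiv (P : Subgroup S)).toMonoidHom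
      (MulEquiv.injective _)
  have hinj : Function.Injective
      (((P : Subgroup S).normalizerMonoidHom).comp (T' : Subgroup N).subtype) := by
    rw [injective_iff_map_eq_one]
    intro t ht
    have h1 : (t : N) ∈ ((P : Subgroup S).normalizerMonoidHom).ker := ht
    rw [Subgroup.normalizerMonoidHom_ker, Subgroup.mem_subgroupOf, hC] at h1
    have h2 : orderOf ((t : N) : S) ∣ p := by
      have := orderOf_dvd_natCard (⟨((t : N) : S), h1⟩ : (P : Subgroup S))
      rw [hP, ← Subgroup.orderOf_coe] at this
      exact this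
    obtain ⟨j, hj⟩ := T'.2 t
    have h3 : orderOf ((t : N) : S) ∣ 2 ^ j := by
      rw [Subgroup.orderOf_coe, Subgroup.orderOf_coe]
      exact orderOf_dvd_of_pow_eq_one hj
    have h4 : Nat.Coprime p (2 ^ j) := by
      apply Nat.Coprime.pow_right
      rw [Nat.coprime_comm, Nat.Prime.coprime_iff_not_dvd Nat.prime_two]
      intro h
      obtain ⟨m, hm⟩ := hodd
      omega
    have h5 : orderOf ((t : N) : S) = 1 := Nat.eq_one_of_dvd_coprimes h4 h2 h3
    rw [orderOf_eq_one_iff] at h5
    apply Subtype.ext
    apply Subtype.ext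
    exact h5
  haveI hT'cyc : IsCyclic (T' : Subgroup N) := isCyclic_of_injective _ hinj
  set T'' := (T' : Subgroup N).map N.subtype with hT''
  have hT''card : Nat.card T'' = 2 ^ (Nat.card S).factorization 2 := by
    rw [hT'', Subgroup.card_map_of_injective N.subtype_injective, Sylow.card_eq_multiplicity,
      ← N.card_mul_index, ← Cfsg.Agent.S4341.card_sylow_eq p P, hn,
      Nat.factorization_mul Nat.card_pos.ne' (by omega), Finsupp.add_apply,
      Nat.factorization_eq_zero_of_not_dvd (by omega : ¬ 2 ∣ 2 * p + 1), add_zero]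
  have hTcyc : IsCyclic ((Sylow.ofCard T'' hT''card : Sylow 2 S) : Subgroup S) := by
    rw [Sylow.coe_ofCard]
    exact isCyclic_of_surjective
      ((T' : Subgroup N).equivMapOfInjective N.subtype N.subtype_injective).toMonoidHom
      (MulEquiv.surjective _)
  have heven : Even (Nat.card S) := by
    rw [hcardS]
    exact Even.mul_left hnodd _
  obtain ⟨H, hH⟩ := Lead.exists_index_two_of_cyclic_sylow heven (Sylow.ofCard T'' hT''card) hTcyc
  rcases (Subgroup.normal_of_index_eq_two hH).eq_bot_or_eq_top with h | h
  · rw [h, Subgroup.index_bot, hcardS] at hH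
    have h1 : 1 ≤ e := Nat.pos_of_ne_zero (by rintro h0; rw [h0] at hnodd hcardN; simp at hcardN; exact Nat.card_pos.ne' hcardN.symm)
    have : 3 * 3 * 1 ≤ (2 * p + 1) * p * e := by
      apply Nat.mul_le_mul (Nat.mul_le_mul (by omega) hp3) h1
    omega
  · rw [h, Subgroup.index_top] at hH
    omega

/-- `|N(R) : C(R)|` divides `q - 1` for a subgroup `R` of prime order `q` -/
theorem relIndex_centralizer_dvd {q : ℕ} [Fact q.Prime] (R : Subgroup S) (hR : Nat.card R = q) :
    (Subgroup.centralizer (R : Set S)).relIndex (Subgroup.normalizer (R : Set S)) ∣ q - 1 := by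
  haveI : IsCyclic R := isCyclic_of_prime_card hR
  have key := Subgroup.card_dvd_of_injective _
    (QuotientGroup.kerLift_injective R.normalizerMonoidHom)
  rw [Subgroup.normalizerMonoidHom_ker, ← Subgroup.index, ← Subgroup.relIndex,
    IsCyclic.card_mulAut, hR, Nat.totient_prime Fact.out] at key
  exact key

theorem not_normal_of_card_ne_one {p : ℕ} [Fact p.Prime] (P : Sylow p S)
    (h : Nat.card (Sylow p S) ≠ 1) : ¬ (P : Subgroup S).Normal := by
  intro hN
  apply h
  haveI := Sylow.unique_of_normal P hN
  exact Nat.card_unique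

/-- a simple group with a non-normal Sylow `p`-subgroup is non-abelian and has order divisible
by `p` -/
theorem nonabelian_of_card_ne_one {p : ℕ} [Fact p.Prime]
    (h : Nat.card (Sylow p S) ≠ 1) : ¬ IsMulCommutative S ∧ p ∣ Nat.card S := by
  let P : Sylow p S := default
  have hnn := not_normal_of_card_ne_one P h
  constructor
  · intro hc
    apply hnn
    constructor
    intro n hn g
    have : g * n * g⁻¹ = n := by
      have h1 : g * n = n * g := hc.is_comm.comm g n
      rw [h1]; group
    rw [this]; exact hn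
  · by_contra hnd
    apply hnn
    have h1 : Nat.card (P : Subgroup S) = 1 := by
      rw [Sylow.card_eq_multiplicity, Nat.factorization_eq_zero_of_not_dvd hnd, pow_zero]
    rw [Subgroup.card_eq_one.mp h1]
    infer_instance

universe u

/-- from the factorisation of Sylow numbers: a Sylow number that is not a prime power and has no
proper divisor `≡ 1` mod `p` other than 1 is the Sylow number of a simple group -/
theorem exists_simple_of_card_sylow {G : Type u} [Group G] [Finite G] (p n : ℕ) [Fact p.Prime]
    (hn : Nat.card (Sylow p G) = n) (hbad : ∀ d, d ∣ n → d ≠ 1 → d ≠ n → d % p ≠ 1)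
    (hnpp : ¬ IsPrimePow n) (hn1 : n ≠ 1) :
    ∃ (T : Type u) (_ : Group T) (_ : Finite T), IsSimpleGroup T ∧ Nat.card (Sylow p T) = n := by
  have hpp : p.Prime := Fact.out
  obtain ⟨l, hprod, hl⟩ := Cfsg.Agent.S4303.result (G := G) p
  rw [hn] at hprod
  by_contra hcon
  apply hn1
  rw [← hprod]
  apply List.prod_eq_one
  intro m hm
  have hmd : m ∣ n := hprod ▸ List.dvd_prod hm
  by_contra hm1
  rcases hl m hm with ⟨hpp', hmod⟩ | ⟨T, iG, iF, hsimple, hmT⟩
  · have hmn : m ≠ n := fun h => hnpp (h ▸ hpp')
    exact hbad m hmd hm1 hmn hmod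
  · by_cases hmn : m = n
    · exact hcon ⟨T, iG, iF, hsimple, by rw [← hmT, hmn]⟩
    · apply hbad m hmd hm1 hmn
      rw [hmT]
      have := card_sylow_modEq_one p T
      rw [Nat.ModEq, Nat.mod_eq_of_lt hpp.one_lt] at this
      exact this

/-- there is no simple group of order 315 -/
theorem no_simple_315 [IsSimpleGroup S] (hcard : Nat.card S = 315) : False := by
  haveI : Fact (Nat.Prime 5) := ⟨by norm_num⟩
  let R : Sylow 5 S := default
  have hRcard : Nat.card (R : Subgroup S) = 5 := by
    rw [Sylow.card_eq_multiplicity, hcard]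
    have : (315 : ℕ).factorization 5 = 1 := by
      have h1 : (315 : ℕ) = 5 ^ 1 * 63 := by norm_num
      rw [h1, Nat.factorization_mul (by norm_num) (by norm_num), Finsupp.add_apply,
        Nat.Prime.factorization_pow (by norm_num), Finsupp.single_eq_same,
        Nat.factorization_eq_zero_of_not_dvd (by norm_num : ¬ 5 ∣ 63)]
    rw [this, pow_one]
  have hRidx : (R : Subgroup S).index = 63 := by
    have := (R : Subgroup S).card_mul_index
    rw [hRcard, hcard] at this
    omega
  have hdvd : Nat.card (Sylow 5 S) ∣ 63 := hRidx ▸ Sylow.card_dvd_index R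
  have hmod : Nat.card (Sylow 5 S) % 5 = 1 := by
    have := card_sylow_modEq_one 5 S
    rw [Nat.ModEq] at this
    exact this
  have hle : Nat.card (Sylow 5 S) ≤ 63 := Nat.le_of_dvd (by norm_num) hdvd
  have hRne_bot : (R : Subgroup S) ≠ ⊥ := by
    intro h
    rw [h, Subgroup.card_bot] at hRcard
    omega
  have hRne_top : (R : Subgroup S) ≠ ⊤ := by
    intro h
    rw [h, Subgroup.card_top, hcard] at hRcard
    omega
  have hcases : Nat.card (Sylow 5 S) = 1 ∨ Nat.card (Sylow 5 S) = 21 := by
    generalize Nat.card (Sylow 5 S) = n at hdvd hmod hle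
    interval_cases n <;> omega
  rcases hcases with h1 | h21
  · have hN : Subgroup.normalizer ((R : Subgroup S) : Set S) = ⊤ := by
      rw [← Subgroup.index_eq_one, ← Cfsg.Agent.S4341.card_sylow_eq 5 R]
      exact h1
    have hnorm : (R : Subgroup S).Normal := Subgroup.normalizer_eq_top_iff.mp hN
    rcases hnorm.eq_bot_or_eq_top with h | h
    · exact hRne_bot h
    · exact hRne_top h
  · have hNidx : (Subgroup.normalizer ((R : Subgroup S) : Set S)).index = 21 := by
      rw [← Cfsg.Agent.S4341.card_sylow_eq 5 R]; exact h21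
    have hNcard : Nat.card (Subgroup.normalizer ((R : Subgroup S) : Set S)) = 15 := by
      have := (Subgroup.normalizer ((R : Subgroup S) : Set S)).card_mul_index
      rw [hNidx, hcard] at this
      omega
    have hd1 := relIndex_centralizer_dvd (q := 5) (R : Subgroup S) hRcard
    have hd2 : (Subgroup.centralizer ((R : Subgroup S) : Set S)).relIndex
        (Subgroup.normalizer ((R : Subgroup S) : Set S)) ∣ 15 :=
      hNcard ▸ Subgroup.relIndex_dvd_card _ _
    have hone : (Subgroup.centralizer ((R : Subgroup S) : Set S)).relIndex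
        (Subgroup.normalizer ((R : Subgroup S) : Set S)) = 1 := by
      have h3 := Nat.dvd_gcd hd1 hd2
      have h4 : Nat.gcd (5 - 1) 15 = 1 := by norm_num
      rw [h4] at h3
      exact Nat.dvd_one.mp h3
    have hNC := Subgroup.relIndex_eq_one.mp hone
    have hcompl := MonoidHom.ker_transferSylow_isComplement' R hNC
    have hcm := hcompl.card_mul_card
    rw [hRcard, hcard] at hcm
    rcases (MonoidHom.normal_ker (MonoidHom.transferSylow R hNC)).eq_bot_or_eq_top with h | h
    · rw [h, Subgroup.card_bot] at hcm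
      omega
    · rw [h, Subgroup.card_top, hcard] at hcm
      omega

end Cfsg.Agent.Lib.Helper7.NP2
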