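import Mathlib
import Cfsg.Agent.Lib.Lead.Galois

/-!
AM-GM bound for character values on a set of nonvanishing elements closed under coprime powers.
-/

set_option autoImplicit false

namespace Cfsg.Agent.Lib.Helper7.Van

open Cfsg.Agent.Lib.Lead Module Representation

theorem pow_nonvanishing {G : Type*} [Group G] [Finite G] {V : Type*} [AddCommGroup V]
    [Module ℂ V] [FiniteDimensional ℂ V] (ρ : Representation ℂ G V) (g : G) (m : ℕ)
    (hm : m.Coprime (Nat.card G)) (h : ρ.character g ≠ 0) : ρ.character (g ^ m) ≠ 0 := by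
  haveI : NeZero (Nat.card G) := ⟨Nat.card_pos.ne'⟩
  let φ₀ : CyclotomicField (Nat.card G) ℚ →ₐ[ℚ] ℂ := IsAlgClosed.lift
  obtain ⟨x, hx1, -, hx3⟩ := char_galois (Nat.card G) ρ (fun g => pow_card_eq_one') φ₀ g
  obtain ⟨σ, hσ⟩ := cyc_exists_embed (Nat.card G) φ₀ m hm
  rw [← hx3 σ m hσ]
  intro h0
  apply h
  rw [← hx1, (map_eq_zero σ).mp h0, map_zero]

theorem pow_norm_ne {G : Type*} [Group G] [Finite G] {V : Type*} [AddCommGroup V]
    [Module ℂ V] [FiniteDimensional ℂ V] (ρ : Representation ℂ G V) (g : G) (m : ℕ)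
    (hm : m.Coprime (Nat.card G)) (h : ‖ρ.character g‖ ≠ (finrank ℂ V : ℝ)) :
    ‖ρ.character (g ^ m)‖ ≠ (finrank ℂ V : ℝ) := by
  intro h2
  apply h
  obtain ⟨ω, hω⟩ := (char_norm_eq_iff ρ (g ^ m)).mp h2
  have hcop : m.Coprime (orderOf g) := Nat.Coprime.coprime_dvd_right (orderOf_dvd_natCard g) hm
  obtain ⟨k, hk⟩ := exists_pow_eq_self_of_coprime hcop
  apply (char_norm_eq_iff ρ g).mpr
  refine ⟨ω ^ k, ?_⟩
  have e : ρ g = ρ ((g ^ m) ^ k) := by rw [hk]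
  rw [e, map_pow, hω, smul_pow, one_pow]

theorem amgm_sum {G : Type*} [Group G] [Fintype G] [DecidableEq G] {V : Type*} [AddCommGroup V]
    [Module ℂ V] [FiniteDimensional ℂ V] (ρ : Representation ℂ G V) (A : Finset G)
    (hA0 : ∀ g ∈ A, ρ.character g ≠ 0)
    (hA : ∀ m : ℕ, m.Coprime (Nat.card G) → ∀ g ∈ A, g ^ m ∈ A) :
    (A.card : ℝ) ≤ ∑ g ∈ A, ‖ρ.character g‖ ^ 2 := by
  classical
  haveI : NeZero (Nat.card G) := ⟨Nat.card_pos.ne'⟩
  let φ₀ : CyclotomicField (Nat.card G) ℚ →ₐ[ℚ] ℂ := IsAlgClosed.lift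
  have hgN : ∀ g : G, g ^ Nat.card G = 1 := fun g => pow_card_eq_one'
  choose x hx1 hx2 hx3 using fun g => char_galois (Nat.card G) ρ hgN φ₀ g
  haveI : Nonempty (CyclotomicField (Nat.card G) ℚ →ₐ[ℚ] ℂ) := ⟨φ₀⟩
  have hE : ∀ (inst : Fintype (CyclotomicField (Nat.card G) ℚ →ₐ[ℚ] ℂ)) (g : G), g ∈ A →
      (Fintype.card (CyclotomicField (Nat.card G) ℚ →ₐ[ℚ] ℂ) : ℝ)
        ≤ ∑ σ : CyclotomicField (Nat.card G) ℚ →ₐ[ℚ] ℂ, ‖σ (x g)‖ ^ 2 := by
    intro inst g hgA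
    have hxne : x g ≠ 0 := by
      intro h
      apply hA0 g hgA
      rw [← hx1 g, h, map_zero]
    have hnorm_int : IsIntegral ℤ (Algebra.norm ℚ (x g)) := Algebra.isIntegral_norm ℚ (hx2 g)
    obtain ⟨k, hk⟩ := IsIntegrallyClosed.isIntegral_iff.mp hnorm_int
    have hk0 : k ≠ 0 := by
      rintro rfl
      rw [map_zero] at hk
      exact hxne (Algebra.norm_eq_zero_iff.mp hk.symm)
    have hprod : (algebraMap ℚ ℂ) (Algebra.norm ℚ (x g))
        = ∏ σ : CyclotomicField (Nat.card G) ℚ →ₐ[ℚ] ℂ, σ (x g) := by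
      rw [Algebra.norm_eq_prod_embeddings ℚ ℂ (x g)]
      exact Finset.prod_congr (Finset.ext (by simp)) (fun _ _ => rfl)
    have h1 : (1 : ℝ) ≤ ∏ σ : CyclotomicField (Nat.card G) ℚ →ₐ[ℚ] ℂ, ‖σ (x g)‖ ^ 2 := by
      rw [Finset.prod_pow, ← norm_prod, ← hprod, ← hk]
      have h2 : ‖(algebraMap ℚ ℂ) ((algebraMap ℤ ℚ) k)‖ = |(k : ℝ)| := by
        simp
      rw [h2]
      have h3 : (1 : ℝ) ≤ |(k : ℝ)| := by exact_mod_cast Int.one_le_abs hk0
      nlinarith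
    have hcard : (0 : ℝ) < Fintype.card (CyclotomicField (Nat.card G) ℚ →ₐ[ℚ] ℂ) := by
      exact_mod_cast Fintype.card_pos
    have hamgm := Real.geom_mean_le_arith_mean Finset.univ
      (fun _ : CyclotomicField (Nat.card G) ℚ →ₐ[ℚ] ℂ => (1 : ℝ)) (fun σ => ‖σ (x g)‖ ^ 2)
      (fun _ _ => zero_le_one) (by
        rw [Finset.sum_const, Finset.card_univ, nsmul_eq_mul, mul_one]; exact hcard)
      (fun _ _ => by positivity)
    simp only [Real.rpow_one, one_mul, Finset.sum_const, Finset.card_univ, nsmul_eq_mul,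
      mul_one] at hamgm
    have h2 : (1 : ℝ) ≤ (∏ σ : CyclotomicField (Nat.card G) ℚ →ₐ[ℚ] ℂ, ‖σ (x g)‖ ^ 2)
        ^ ((Fintype.card (CyclotomicField (Nat.card G) ℚ →ₐ[ℚ] ℂ) : ℝ))⁻¹ :=
      Real.one_le_rpow h1 (inv_nonneg.mpr hcard.le)
    have h3 := h2.trans hamgm
    rwa [le_div_iff₀ hcard, one_mul] at h3
  haveI inst : Fintype (CyclotomicField (Nat.card G) ℚ →ₐ[ℚ] ℂ) := Fintype.ofFinite _
  have hcard : (0 : ℝ) < Fintype.card (CyclotomicField (Nat.card G) ℚ →ₐ[ℚ] ℂ) := by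
    exact_mod_cast Fintype.card_pos
  have hσ : ∀ σ : CyclotomicField (Nat.card G) ℚ →ₐ[ℚ] ℂ,
      ∑ g ∈ A, ‖σ (x g)‖ ^ 2 = ∑ g ∈ A, ‖ρ.character g‖ ^ 2 := by
    intro σ
    obtain ⟨m, hm, hσm⟩ := cyc_embed_pow (Nat.card G) φ₀ σ
    have h1 : ∀ g : G, ‖σ (x g)‖ ^ 2 = ‖ρ.character (g ^ m)‖ ^ 2 := by
      intro g
      rw [hx3 g σ m hσm]
    rw [Finset.sum_congr rfl (fun g _ => h1 g)]
    have hm' : (Nat.card G).Coprime m := hm.symm
    have hinj : Function.Injective (fun g : G => g ^ m) := (powCoprime hm').injective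
    have himg : A.image (fun g => g ^ m) = A := by
      apply Finset.eq_of_subset_of_card_le
      · intro y hy
        obtain ⟨g, hg, rfl⟩ := Finset.mem_image.mp hy
        exact hA m hm g hg
      · rw [Finset.card_image_of_injective _ hinj]
    conv_rhs => rw [← himg]
    rw [Finset.sum_image (fun a _ b _ h => hinj h)]
  have h1 : ∑ g ∈ A, ∑ σ : CyclotomicField (Nat.card G) ℚ →ₐ[ℚ] ℂ, ‖σ (x g)‖ ^ 2
      = (Fintype.card (CyclotomicField (Nat.card G) ℚ →ₐ[ℚ] ℂ) : ℝ)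
        * ∑ g ∈ A, ‖ρ.character g‖ ^ 2 := by
    rw [Finset.sum_comm, Finset.sum_congr rfl (fun σ _ => hσ σ), Finset.sum_const,
      Finset.card_univ, nsmul_eq_mul]
  have h2 : ∑ g ∈ A, (Fintype.card (CyclotomicField (Nat.card G) ℚ →ₐ[ℚ] ℂ) : ℝ)
      ≤ ∑ g ∈ A, ∑ σ : CyclotomicField (Nat.card G) ℚ →ₐ[ℚ] ℂ, ‖σ (x g)‖ ^ 2 :=
    Finset.sum_le_sum (fun g hg => hE inst g hg)
  rw [Finset.sum_const, nsmul_eq_mul, h1, mul_comm] at h2
  exact le_of_mul_le_mul_left h2 hcard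

end Cfsg.Agent.Lib.Helper7.Van
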