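import Mathlib
import Cfsg.Prelude.Def_CaseTheorems
import Cfsg.Agent.Lib.Helper7.Regular

set_option autoImplicit false

namespace Cfsg.Agent.Lib.Helper7.Wr

open scoped commutatorElement

universe u

/-- order of a product of commuting elements generating disjoint cyclic groups of the same order -/
theorem orderOf_mul_of_disjoint {G : Type*} [Group G] (a b : G) (hab : a * b = b * a)
    (hd : Subgroup.zpowers a ⊓ Subgroup.zpowers b = ⊥) (ho : orderOf a = orderOf b) :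
    orderOf (a * b) = orderOf a := by
  rw [orderOf_eq_orderOf_iff]
  intro k
  have hc : Commute a b := hab
  rw [hc.mul_pow]
  constructor
  · intro h
    have h1 : a ^ k = (b ^ k)⁻¹ := eq_inv_of_mul_eq_one_left h
    have h2 : a ^ k ∈ Subgroup.zpowers a ⊓ Subgroup.zpowers b := by
      refine ⟨Subgroup.pow_mem _ (Subgroup.mem_zpowers a) k, ?_⟩
      rw [h1]
      exact Subgroup.inv_mem _ (Subgroup.pow_mem _ (Subgroup.mem_zpowers b) k)
    rw [hd] at h2
    exact Subgroup.mem_bot.mp h2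
  · intro h
    have h1 : b ^ k = 1 := by
      have h2 := orderOf_dvd_of_pow_eq_one h
      rw [ho] at h2
      exact orderOf_dvd_iff_pow_eq_one.mp h2
    rw [h, h1, one_mul]

/-- structure of a wreathed 2-group -/
theorem wr_structure {S : Type u} [Group S] [Finite S] (hS : Cfsg.IsWreathed S) (n : ℕ)
    (hn : Nat.card S = 2 ^ (2 * n + 1)) :
    2 ≤ n ∧ ∃ (x y z : S), orderOf x = 2 ^ n ∧ orderOf y = 2 ^ n ∧ x * y = y * x ∧
      Subgroup.zpowers x ⊓ Subgroup.zpowers y = ⊥ ∧ z * z = 1 ∧ z⁻¹ = z ∧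
      z * x * z⁻¹ = y ∧ z * y * z⁻¹ = x ∧
      (∀ s : S, (∃ i j : ℤ, s = x ^ i * y ^ j) ∨ (∃ i j : ℤ, s = z * (x ^ i * y ^ j))) ∧
      (∀ i j : ℤ, z ≠ x ^ i * y ^ j) ∧
      Subgroup.center S = Subgroup.zpowers (x * y) ∧ orderOf (x * y) = 2 ^ n ∧
      commutator S = Subgroup.zpowers (y * x⁻¹) ∧ orderOf (y * x⁻¹) = 2 ^ n := by
  obtain ⟨n₀, hn₀, hcard₀, x, y, z, hx, hxy, hd, hz, hzx⟩ := hS
  have hnn : n₀ = n := by
    rw [hcard₀] at hn
    have h1 := Nat.pow_right_injective (le_refl 2) hn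
    omega
  subst hnn
  refine ⟨hn₀, x, y, z, hx, ?_⟩
  have hzz : z * z = 1 := by
    have h1 := pow_orderOf_eq_one z
    rw [hz, pow_two] at h1
    exact h1
  have hzinv : z⁻¹ = z := inv_eq_of_mul_eq_one_left hzz
  have hy : orderOf y = 2 ^ n₀ := by
    rw [← hzx, ← hx]
    have h := orderOf_injective (MulAut.conj z).toMonoidHom (MulEquiv.injective _) x
    have e : (MulAut.conj z).toMonoidHom x = z * x * z⁻¹ := by simp
    rw [e] at h; exact h
  have hzy : z * y * z⁻¹ = x := by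
    rw [← hzx, hzinv]
    calc z * (z * x * z) * z = (z * z) * x * (z * z) := by simp only [mul_assoc]
      _ = x := by rw [hzz, one_mul, mul_one]
  have hcxy : Commute x y := hxy
  have hx1 : x ≠ 1 := by
    intro h
    rw [h, orderOf_one] at hx
    have h2 : 2 ^ 2 ≤ 2 ^ n₀ := Nat.pow_le_pow_right (by norm_num) hn₀
    omega
  have hne : x ≠ y := by
    intro h
    have h2 : x ∈ Subgroup.zpowers x ⊓ Subgroup.zpowers y :=
      ⟨Subgroup.mem_zpowers x, h ▸ Subgroup.mem_zpowers x⟩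
    rw [hd] at h2
    exact hx1 (Subgroup.mem_bot.mp h2)
  obtain ⟨A, hA⟩ : ∃ A : Subgroup S, ∀ s, s ∈ A ↔ ∃ i j : ℤ, s = x ^ i * y ^ j := by
    refine ⟨{ carrier := {s | ∃ i j : ℤ, s = x ^ i * y ^ j}
              mul_mem' := ?_
              one_mem' := ⟨0, 0, by simp⟩
              inv_mem' := ?_ }, fun s => Iff.rfl⟩
    · rintro a b ⟨i, j, rfl⟩ ⟨k, l, rfl⟩
      refine ⟨i + k, j + l, ?_⟩
      have hc : Commute (y ^ j) (x ^ k) := (hcxy.symm.zpow_left j).zpow_right k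
      rw [zpow_add, zpow_add]
      calc x ^ i * y ^ j * (x ^ k * y ^ l) = x ^ i * (y ^ j * x ^ k) * y ^ l := by
            simp only [mul_assoc]
        _ = x ^ i * (x ^ k * y ^ j) * y ^ l := by rw [hc.eq]
        _ = x ^ i * x ^ k * (y ^ j * y ^ l) := by simp only [mul_assoc]
    · rintro a ⟨i, j, rfl⟩
      refine ⟨-i, -j, ?_⟩
      have hc : Commute (y ^ j) (x ^ i) := (hcxy.symm.zpow_left j).zpow_right i
      rw [mul_inv_rev, zpow_neg, zpow_neg]
      exact (hc.inv_inv).eq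
  have hAcomm : ∀ a ∈ A, ∀ b ∈ A, a * b = b * a := by
    intro a ha b hb
    obtain ⟨i, j, rfl⟩ := (hA a).mp ha
    obtain ⟨k, l, rfl⟩ := (hA b).mp hb
    have h1 : Commute (x ^ i) (x ^ k) := ((Commute.refl x).zpow_left i).zpow_right k
    have h2 : Commute (x ^ i) (y ^ l) := (hcxy.zpow_left i).zpow_right l
    have h3 : Commute (y ^ j) (x ^ k) := (hcxy.symm.zpow_left j).zpow_right k
    have h4 : Commute (y ^ j) (y ^ l) := ((Commute.refl y).zpow_left j).zpow_right l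
    exact ((h1.mul_right h2).mul_left (h3.mul_right h4)).eq
  have hxA : x ∈ A := (hA x).mpr ⟨1, 0, by simp⟩
  have hyA : y ∈ A := (hA y).mpr ⟨0, 1, by simp⟩
  have hzA : z ∉ A := by
    intro h
    have h1 := hAcomm z h x hxA
    apply hne
    rw [← hzx, h1, mul_inv_cancel_right]
  have hAcard_ge : 2 ^ n₀ * 2 ^ n₀ ≤ Nat.card A := by
    have hmem : ∀ p : Subgroup.zpowers x × Subgroup.zpowers y, (p.1 : S) * (p.2 : S) ∈ A := by
      intro p
      obtain ⟨i, hi⟩ := Subgroup.mem_zpowers_iff.mp p.1.2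
      obtain ⟨j, hj⟩ := Subgroup.mem_zpowers_iff.mp p.2.2
      exact (hA _).mpr ⟨i, j, by rw [hi, hj]⟩
    have hinj : Function.Injective (fun p : Subgroup.zpowers x × Subgroup.zpowers y =>
        (⟨(p.1 : S) * (p.2 : S), hmem p⟩ : A)) := by
      intro p q hpq
      have h1 : (p.1 : S) * (p.2 : S) = (q.1 : S) * (q.2 : S) := congrArg Subtype.val hpq
      exact Subgroup.mul_injective_of_disjoint (disjoint_iff.mpr hd) h1
    have h2 := Nat.card_le_card_of_injective _ hinj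
    rw [Nat.card_prod, Nat.card_zpowers, Nat.card_zpowers, hx, hy] at h2
    exact h2
  have hAidx : A.index = 2 := by
    have h1 := Subgroup.card_mul_index A
    rw [hcard₀] at h1
    have h2 : 2 ^ (2 * n₀ + 1) = 2 * (2 ^ n₀ * 2 ^ n₀) := by ring
    rw [h2] at h1
    have h3 : A.index ≠ 1 := fun h =>
      hzA (by rw [Subgroup.index_eq_one.mp h]; exact Subgroup.mem_top z)
    have h4 : A.index ≠ 0 := Subgroup.index_ne_zero_of_finite
    by_contra h5
    have h6 : 3 ≤ A.index := by omega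
    have h7 : Nat.card A * 3 ≤ Nat.card A * A.index := Nat.mul_le_mul_left _ h6
    have h8 : 0 < 2 ^ n₀ * 2 ^ n₀ := by positivity
    omega
  have hsurj : ∀ s : S, (∃ i j : ℤ, s = x ^ i * y ^ j) ∨
      (∃ i j : ℤ, s = z * (x ^ i * y ^ j)) := by
    intro s
    by_cases hs : s ∈ A
    · left; exact (hA s).mp hs
    · right
      have h1 : z⁻¹ * s ∈ A :=
        (Subgroup.mul_mem_iff_of_index_two hAidx).mpr
          (iff_of_false (fun h => hzA (inv_inv z ▸ Subgroup.inv_mem _ h)) hs)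
      obtain ⟨i, j, hij⟩ := (hA _).mp h1
      exact ⟨i, j, by rw [← hij, mul_inv_cancel_left]⟩
  have hzconj : ∀ i j : ℤ, z * (x ^ i * y ^ j) * z⁻¹ = y ^ i * x ^ j := by
    intro i j
    have e : z * (x ^ i * y ^ j) * z⁻¹ = (z * x * z⁻¹) ^ i * (z * y * z⁻¹) ^ j := by
      rw [conj_zpow, conj_zpow]; simp only [mul_assoc, inv_mul_cancel_left]
    rw [e, hzx, hzy]
  have hcz : Commute z (x * y) := by
    have h1 : z * (x * y) * z⁻¹ = x * y := by
      have h2 := hzconj 1 1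
      simp only [zpow_one] at h2
      rw [h2, hxy]
    calc z * (x * y) = z * (x * y) * z⁻¹ * z := by rw [inv_mul_cancel_right]
      _ = x * y * z := by rw [h1]
  have hcx : Commute x (x * y) := (Commute.refl x).mul_right hcxy
  have hcy : Commute y (x * y) := hcxy.symm.mul_right (Commute.refl y)
  have hcen1 : x * y ∈ Subgroup.center S := by
    rw [Subgroup.mem_center_iff]
    intro s
    rcases hsurj s with ⟨i, j, rfl⟩ | ⟨i, j, rfl⟩
    · exact ((hcx.zpow_left i).mul_left (hcy.zpow_left j)).eq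
    · exact (hcz.mul_left ((hcx.zpow_left i).mul_left (hcy.zpow_left j))).eq
  have hcen2 : Subgroup.center S ≤ Subgroup.zpowers (x * y) := by
    intro c hc
    rw [Subgroup.mem_center_iff] at hc
    rcases hsurj c with ⟨i, j, rfl⟩ | ⟨i, j, rfl⟩
    · have h1 := hc z
      have h2 : y ^ i * x ^ j = x ^ i * y ^ j := by
        rw [← hzconj i j, h1, mul_inv_cancel_right]
      have h3 : x ^ (i - j) = y ^ (i - j) := by
        rw [zpow_sub, zpow_sub]
        have hc1 : Commute (x ^ j) (y ^ j) := (hcxy.zpow_left j).zpow_right j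
        have h4 : x ^ i = y ^ i * x ^ j * (y ^ j)⁻¹ := by rw [h2, mul_inv_cancel_right]
        rw [h4]
        calc y ^ i * x ^ j * (y ^ j)⁻¹ * (x ^ j)⁻¹
            = y ^ i * (x ^ j * (y ^ j)⁻¹) * (x ^ j)⁻¹ := by simp only [mul_assoc]
          _ = y ^ i * ((y ^ j)⁻¹ * x ^ j) * (x ^ j)⁻¹ := by rw [(hc1.inv_right).eq]
          _ = y ^ i * (y ^ j)⁻¹ := by simp only [mul_assoc, mul_inv_cancel, mul_one]
      have h5 : x ^ (i - j) = 1 := by
        have h6 : x ^ (i - j) ∈ Subgroup.zpowers x ⊓ Subgroup.zpowers y :=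
          ⟨Subgroup.zpow_mem _ (Subgroup.mem_zpowers x) _,
            by rw [h3]; exact Subgroup.zpow_mem _ (Subgroup.mem_zpowers y) _⟩
        rw [hd] at h6
        exact Subgroup.mem_bot.mp h6
      have h7 : x ^ i = x ^ j := by
        have h8 : x ^ i = x ^ (i - j) * x ^ j := by rw [← zpow_add]; congr 1; ring
        rw [h8, h5, one_mul]
      rw [h7, ← hcxy.mul_zpow]
      exact Subgroup.zpow_mem _ (Subgroup.mem_zpowers _) j
    · exfalso
      have h1 := hc x
      have hc1 : Commute (x ^ i * y ^ j) x :=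
        ((Commute.refl x).zpow_left i).mul_left (hcxy.symm.zpow_left j)
      have h2 : z * (x ^ i * y ^ j) * x = z * x * (x ^ i * y ^ j) := by
        rw [mul_assoc, hc1.eq, mul_assoc]
      rw [h2] at h1
      have h3 : x * z * (x ^ i * y ^ j) = z * x * (x ^ i * y ^ j) := by
        rw [mul_assoc]; exact h1
      have h4 : x * z = z * x := mul_right_cancel h3
      apply hne
      rw [← hzx, ← h4, mul_inv_cancel_right]
  have hcen : Subgroup.center S = Subgroup.zpowers (x * y) :=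
    le_antisymm hcen2 (Subgroup.zpowers_le.mpr hcen1)
  have hoxy : orderOf (x * y) = 2 ^ n₀ := by
    rw [orderOf_mul_of_disjoint x y hxy hd (hx.trans hy.symm), hx]
  have hdmem : y * x⁻¹ ∈ commutator S := by
    have h1 : ⁅z, x⁆ ∈ commutator S := by
      rw [commutator_def]
      exact Subgroup.commutator_mem_commutator (Subgroup.mem_top z) (Subgroup.mem_top x)
    rw [commutatorElement_def, hzx] at h1
    exact h1
  have hzd : z * (y * x⁻¹) * z⁻¹ = (y * x⁻¹)⁻¹ := by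
    have e : z * (y * x⁻¹) * z⁻¹ = (z * y * z⁻¹) * (z * x * z⁻¹)⁻¹ := by group
    rw [e, hzx, hzy, mul_inv_rev, inv_inv]
  have hgen : ∀ s ∈ ({x, y, z} : Set S), ∀ s' ∈ ({x, y, z} : Set S),
      s * s' * s⁻¹ * s'⁻¹ ∈ Subgroup.zpowers (y * x⁻¹) := by
    have hD1 : (1 : S) ∈ Subgroup.zpowers (y * x⁻¹) := Subgroup.one_mem _
    have hDd : y * x⁻¹ ∈ Subgroup.zpowers (y * x⁻¹) := Subgroup.mem_zpowers _
    have hDi : x * y⁻¹ ∈ Subgroup.zpowers (y * x⁻¹) := by
      have h1 := Subgroup.inv_mem _ hDd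
      rwa [mul_inv_rev, inv_inv] at h1
    have e1 : ∀ a : S, a * a * a⁻¹ * a⁻¹ = 1 := fun a => by group
    have e2 : x * y * x⁻¹ * y⁻¹ = 1 := by rw [hxy]; group
    have e3 : y * x * y⁻¹ * x⁻¹ = 1 := by rw [← hxy]; group
    have e4 : z * x * z⁻¹ * x⁻¹ = y * x⁻¹ := by rw [hzx]
    have e5 : z * y * z⁻¹ * y⁻¹ = x * y⁻¹ := by rw [hzy]
    have e6 : x * z * x⁻¹ * z⁻¹ = x * y⁻¹ := by
      have e : x * z * x⁻¹ * z⁻¹ = x * (z * x * z⁻¹)⁻¹ := by group
      rw [e, hzx]
    have e7 : y * z * y⁻¹ * z⁻¹ = y * x⁻¹ := by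
      have e : y * z * y⁻¹ * z⁻¹ = y * (z * y * z⁻¹)⁻¹ := by group
      rw [e, hzy]
    rintro s (hs | hs | hs) s' (hs' | hs' | hs') <;> rw [hs, hs']
    · rw [e1]; exact hD1
    · rw [e2]; exact hD1
    · rw [e6]; exact hDi
    · rw [e3]; exact hD1
    · rw [e1]; exact hD1
    · rw [e7]; exact hDd
    · rw [e4]; exact hDd
    · rw [e5]; exact hDi
    · rw [e1]; exact hD1
  have hcl : Subgroup.closure ({x, y, z} : Set S) = ⊤ := by
    rw [eq_top_iff]
    intro s _
    have hxc : x ∈ Subgroup.closure ({x, y, z} : Set S) := Subgroup.subset_closure (by simp)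
    have hyc : y ∈ Subgroup.closure ({x, y, z} : Set S) := Subgroup.subset_closure (by simp)
    have hzc : z ∈ Subgroup.closure ({x, y, z} : Set S) := Subgroup.subset_closure (by simp)
    rcases hsurj s with ⟨i, j, rfl⟩ | ⟨i, j, rfl⟩
    · exact Subgroup.mul_mem _ (Subgroup.zpow_mem _ hxc i) (Subgroup.zpow_mem _ hyc j)
    · exact Subgroup.mul_mem _ hzc
        (Subgroup.mul_mem _ (Subgroup.zpow_mem _ hxc i) (Subgroup.zpow_mem _ hyc j))
  have hdA : y * x⁻¹ ∈ A := A.mul_mem hyA (A.inv_mem hxA)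
  have hnorm : ∀ g : S, ∀ u ∈ Subgroup.zpowers (y * x⁻¹),
      g * u * g⁻¹ ∈ Subgroup.zpowers (y * x⁻¹) := by
    intro g u hu
    obtain ⟨t, rfl⟩ := Subgroup.mem_zpowers_iff.mp hu
    have hut : (y * x⁻¹) ^ t ∈ A := A.zpow_mem hdA t
    rcases hsurj g with ⟨i, j, rfl⟩ | ⟨i, j, rfl⟩
    · have hg : x ^ i * y ^ j ∈ A := (hA _).mpr ⟨i, j, rfl⟩
      rw [hAcomm _ hg _ hut, mul_inv_cancel_right]
      exact Subgroup.zpow_mem _ (Subgroup.mem_zpowers _) t
    · have hg : x ^ i * y ^ j ∈ A := (hA _).mpr ⟨i, j, rfl⟩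
      have e : z * (x ^ i * y ^ j) * (y * x⁻¹) ^ t * (z * (x ^ i * y ^ j))⁻¹
          = z * (y * x⁻¹) ^ t * z⁻¹ := by
        rw [mul_inv_rev]
        calc z * (x ^ i * y ^ j) * (y * x⁻¹) ^ t * ((x ^ i * y ^ j)⁻¹ * z⁻¹)
            = z * ((x ^ i * y ^ j) * (y * x⁻¹) ^ t * (x ^ i * y ^ j)⁻¹) * z⁻¹ := by
              simp only [mul_assoc]
          _ = z * (y * x⁻¹) ^ t * z⁻¹ := by rw [hAcomm _ hg _ hut, mul_inv_cancel_right]
      rw [e, ← conj_zpow, hzd]
      exact Subgroup.zpow_mem _ (Subgroup.inv_mem _ (Subgroup.mem_zpowers _)) t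
  have hcomm : commutator S = Subgroup.zpowers (y * x⁻¹) := by
    apply le_antisymm
    · have h1 := Cfsg.Agent.Lib.Helper7.Reg.lemQ (Subgroup.zpowers (y * x⁻¹))
        ({x, y, z} : Set S) (fun g _ u hu => hnorm g u hu) hgen
      rw [hcl] at h1
      rw [commutator_def]; exact h1
    · exact Subgroup.zpowers_le.mpr hdmem
  have hod : orderOf (y * x⁻¹) = 2 ^ n₀ := by
    rw [orderOf_mul_of_disjoint y x⁻¹ (hcxy.symm.inv_right).eq
      (by rw [Subgroup.zpowers_inv, inf_comm]; exact hd) (by rw [orderOf_inv, hy, hx]), hy]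
  exact ⟨hy, hxy, hd, hzz, hzinv, hzx, hzy, hsurj,
    fun i j h => hzA ((hA z).mpr ⟨i, j, h⟩), hcen, hoxy, hcomm, hod⟩

end Cfsg.Agent.Lib.Helper7.Wr
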